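import Groth.Agent.Curves.K319.CD

/-!
# Numerical theory of divisor classes: the canonical class, equality in Clifford's theorem
-/

set_option autoImplicit false

namespace K319.CD

variable {A : Type*} [AddCommGroup A] {pts : Type*} (C : CD A pts)

theorem h_K_sub_p_p (x y : pts) :
    (C.h (C.K - C.p x - C.p y) : ℤ) = C.h (C.p x + C.p y) + C.g - 3 := by
  have h1 := C.rr (C.p x + C.p y)
  rw [map_add, C.deg_p, C.deg_p, ← sub_sub] at h1
  push_cast at h1
  linarith

theorem h_p_p_pos (x y : pts) : 1 ≤ C.h (C.p x + C.p y) := by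
  have := C.h_cl_ne_zero (x ::ₘ y ::ₘ 0)
  rw [cl_cons, cl_cons, cl_zero, add_zero] at this
  omega

/-- The canonical class separates points and tangents iff there is no `g^1_2`. -/
theorem veryAmple_K_iff (hg : 2 ≤ C.g) :
    (∀ x y, C.h (C.K - C.p x - C.p y) + 2 = C.h C.K) ↔ ¬ ∃ a, C.deg a = 2 ∧ 2 ≤ C.h a := by
  constructor
  · rintro h ⟨a, ha, ha2⟩
    obtain ⟨x, hx⟩ := C.exists_pt a (by omega) (by omega)
    obtain ⟨y, hy⟩ := C.exists_pt (a - C.p x) hx (by rw [C.deg_sub_p, ha]; norm_num)
    have h1 := C.eq_zero (a - C.p x - C.p y) (by rw [C.deg_sub_p, C.deg_sub_p, ha]; norm_num) hy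
    have h2 : a = C.p x + C.p y := by
      rw [sub_sub, sub_eq_zero] at h1
      exact h1
    have h3 := h x y
    have h4 := C.h_K_sub_p_p x y
    rw [← h2] at h4
    rw [C.h_K] at h3
    omega
  · intro h x y
    have h1 : C.h (C.p x + C.p y) < 2 := by
      by_contra hcon
      exact h ⟨C.p x + C.p y, by rw [map_add, C.deg_p, C.deg_p]; norm_num, by omega⟩
    have h2 := C.h_p_p_pos x y
    have h3 := C.h_K_sub_p_p x y
    rw [C.h_K]
    omega

theorem cl_le_ne_zero {m n : Multiset pts} (h : m ≤ n) : C.h (C.cl n - C.cl m) ≠ 0 := by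
  obtain ⟨l, rfl⟩ := Multiset.le_iff_exists_add.mp h
  rw [cl_add, add_sub_cancel_left]
  exact C.h_cl_ne_zero l

theorem exists_cl_of_sub (a : A) (m : Multiset pts) (h : C.h (a - C.cl m) ≠ 0) :
    ∃ n : Multiset pts, m ≤ n ∧ C.cl n = a := by
  obtain ⟨l, hl⟩ := C.exists_cl _ h
  exact ⟨m + l, Multiset.le_add_right m l, by rw [cl_add, hl]; abel⟩

/-- In the equality case of Clifford's theorem there is a `g^1_2`. -/
theorem exists_g12_aux (r : ℕ) : ∀ a : A, C.h a = r + 2 → C.deg a = 2 * (r + 1) → C.h (C.K - a) ≠ 0 → a ≠ C.K →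
    ∃ N : A, C.deg N = 2 ∧ C.h N = 2 := by
  induction r using Nat.strong_induction_on with
  | _ r ih =>
    intro a ha hd hs hK
    classical
    rcases Nat.eq_zero_or_pos r with rfl | hr
    · exact ⟨a, by simpa using hd, by simpa using ha⟩
    have hrr := C.rr a
    have hKa : 2 ≤ C.h (C.K - a) := by
      by_contra hcon
      have h1 : C.h (C.K - a) = 1 := by omega
      have h2 : C.deg (C.K - a) = 0 := by
        rw [map_sub, C.deg_K, hd]
        rw [h1, ha, hd] at hrr
        push_cast at hrr
        linarith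
      exact hK (sub_eq_zero.mp (C.eq_zero _ h2 (by omega))).symm
    -- a point `x` and an effective representative of `K - a` through `x`
    obtain ⟨x, -⟩ := C.exists_good a a (by omega) (by omega)
    obtain ⟨E, hxE, hE⟩ := C.exists_cl_of_sub (C.K - a) {x} (by
      have := C.h_le_succ (C.K - a) x
      simp only [cl, Multiset.map_singleton, Multiset.sum_singleton]
      omega)
    have := C.infinite
    obtain ⟨y, hy⟩ := E.toFinset.finite_toSet.infinite_compl.nonempty
    have hyE : y ∉ E := by simpa using hy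
    obtain ⟨D, hD, hDa⟩ := C.exists_cl_of_sub a (x ::ₘ {y}) (by
      have h1 := C.h_le_succ a x
      have h2 := C.h_le_succ (a - C.p x) y
      simp only [cl, Multiset.map_cons, Multiset.map_singleton, Multiset.sum_cons, Multiset.sum_singleton]
      rw [← sub_sub]
      omega)
    have hyD : y ∈ D := Multiset.mem_of_le hD (by simp)
    have hxD : x ∈ D := Multiset.mem_of_le hD (by simp)
    have hxE' : x ∈ E := Multiset.mem_of_le hxE (by simp)
    -- the common part
    let D' := D ∩ E
    have hD'D : D' ≤ D := Multiset.inter_le_left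
    have hD'E : D' ≤ E := Multiset.inter_le_right
    obtain ⟨S, hS⟩ := Multiset.le_iff_exists_add.mp hD'D
    obtain ⟨T, hT⟩ := Multiset.le_iff_exists_add.mp hD'E
    have hdis : ∀ z ∈ S, z ∉ T := by
      intro z hzS hzT
      have h1 : D'.count z = min (D.count z) (E.count z) := Multiset.count_inter z D E
      have h2 : D.count z = D'.count z + S.count z := by
        conv_lhs => rw [hS]
        exact Multiset.count_add z D' S
      have h3 : E.count z = D'.count z + T.count z := by
        conv_lhs => rw [hT]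
        exact Multiset.count_add z D' T
      have h4 := Multiset.count_pos.mpr hzS
      have h5 := Multiset.count_pos.mpr hzT
      omega
    have hk := C.koszul (C.cl D') S T hdis
    have e1 : C.cl D' + C.cl S = a := by rw [← cl_add, ← hS, hDa]
    have e2 : C.cl D' + C.cl T = C.K - a := by rw [← cl_add, ← hT, hE]
    have e3 : C.cl D' + C.cl S + C.cl T = C.K - C.cl D' := by
      rw [e1, eq_sub_iff_add_eq]
      have : a + C.cl T + C.cl D' = a + (C.cl D' + C.cl T) := by abel
      rw [this, e2]
      abel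
    rw [e3, e1, e2] at hk
    have hKD' : C.h (C.K - C.cl D') ≠ 0 := by
      rw [← e3, ← cl_add, ← cl_add]
      exact C.h_cl_ne_zero _
    have hcl := C.clifford (C.cl D') (C.h_cl_ne_zero D') hKD'
    have hrr' := C.rr (C.cl D')
    have hcard : C.deg (C.cl D') = D'.card := C.deg_cl D'
    have hpos : 0 < D'.card := by
      rw [Multiset.card_pos]
      intro h0
      have : x ∈ D' := Multiset.mem_inter.mpr ⟨hxD, hxE'⟩
      rw [h0] at this
      exact absurd this (Multiset.notMem_zero x)
    have hlt : D'.card < D.card := by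
      refine Multiset.card_lt_card (lt_of_le_of_ne hD'D ?_)
      intro h
      rw [← h] at hyD
      exact hyE (Multiset.mem_inter.mp hyD).2
    have hDcard : (D.card : ℤ) = 2 * (r + 1) := by rw [← C.deg_cl D, hDa, hd]
    have hlt' : (D'.card : ℤ) < D.card := by exact_mod_cast hlt
    have hpos' : (0 : ℤ) < D'.card := by exact_mod_cast hpos
    rw [hcard] at hrr' hcl
    have hk' : (C.h a : ℤ) + C.h (C.K - a) ≤ C.h (C.cl D') + C.h (C.K - C.cl D') := by exact_mod_cast hk
    have hcl1 : (C.h (C.cl D') : ℤ) + C.h (C.K - C.cl D') ≤ C.g + 1 := by exact_mod_cast hcl.1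
    rw [ha, hd] at hrr
    push_cast at hrr
    rw [ha] at hk'
    push_cast at hk'
    -- `2 h(D') = deg D' + 2`
    have h6 : 2 * (C.h (C.cl D') : ℤ) = D'.card + 2 := by linarith
    have h7 : 2 ≤ C.h (C.cl D') := by omega
    refine ih (C.h (C.cl D') - 2) (by omega) (C.cl D') (by omega) ?_ hKD' ?_
    · rw [hcard]
      push_cast [Nat.cast_sub h7]
      linarith
    · intro h
      rw [h, C.deg_K] at hcard
      have h8 : C.deg (C.K - a) ≥ 0 := C.deg_nonneg hs
      rw [map_sub, C.deg_K, hd] at h8
      linarith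

/-- Equality in Clifford's theorem. -/
theorem clifford_eq (a : A) (ha : C.h a ≠ 0) (hs : C.h (C.K - a) ≠ 0) (h0 : a ≠ 0) (hK : a ≠ C.K)
    (heq : 2 * (C.h a : ℤ) = C.deg a + 2) :
    ∃ N : A, C.deg N = 2 ∧ C.h N = 2 ∧ a = (C.h a - 1) • N := by
  have h2 : 2 ≤ C.h a := by
    by_contra hcon
    have h1 : C.h a = 1 := by omega
    rw [h1] at heq
    exact h0 (C.eq_zero a (by push_cast at heq; linarith) ha)
  obtain ⟨N, hN, hN2⟩ := C.exists_g12_aux (C.h a - 2) a (by omega) (by
    push_cast [Nat.cast_sub h2]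
    linarith) hs hK
  refine ⟨N, hN, hN2, ?_⟩
  have hrr := C.rr a
  have hcl := (C.clifford a ha hs).1
  have hpos : 1 ≤ C.h (C.K - a) := by omega
  -- `K = a + (g - 1 - r) N`
  have key : ∀ b : A, C.h b ≠ 0 → C.h b = C.h a → C.deg b = C.deg a →
      b + (C.h (C.K - a) - 1) • N = C.K := by
    intro b hb hba hbd
    have h3 := C.h_nsmul N (by omega) (C.h (C.K - a) - 1)
    rw [hN2] at h3
    have h4 := C.hopf b ((C.h (C.K - a) - 1) • N) hb (by omega)
    have h5 := C.rr (b + (C.h (C.K - a) - 1) • N)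
    have h6 : C.deg (b + (C.h (C.K - a) - 1) • N) = 2 * (C.g : ℤ) - 2 := by
      rw [map_add, map_nsmul, hN, hbd, nsmul_eq_mul, Nat.cast_sub hpos]
      push_cast
      linarith
    rw [h6] at h5
    have h7 : C.h (C.K - (b + (C.h (C.K - a) - 1) • N)) ≠ 0 := by omega
    have h8 : C.deg (C.K - (b + (C.h (C.K - a) - 1) • N)) = 0 := by
      rw [map_sub, h6, C.deg_K]; ring
    exact (sub_eq_zero.mp (C.eq_zero _ h8 h7)).symm
  have k1 := key a ha rfl rfl
  have h3 := C.h_nsmul N (by omega) (C.h a - 1)
  rw [hN2] at h3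
  have hdN : C.deg ((C.h a - 1) • N) = C.deg a := by
    rw [map_nsmul, hN, nsmul_eq_mul, Nat.cast_sub (by omega)]
    push_cast
    linarith
  -- `(h a - 1) N` also has `h = h a`
  have h4 : C.h ((C.h a - 1) • N) = C.h a := by
    apply le_antisymm _ (by omega)
    by_cases hsp : C.h (C.K - (C.h a - 1) • N) = 0
    · have h5 := C.rr ((C.h a - 1) • N)
      rw [hsp, hdN] at h5
      omega
    · have h5 := (C.clifford _ (by omega) hsp).2
      rw [hdN] at h5
      omega
  have k2 := key ((C.h a - 1) • N) (by omega) h4 hdN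
  exact add_right_cancel (k1.trans k2.symm)

end K319.CD
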