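import Groth.Agent.Curves.K319.NBase
import Groth.Agent.Curves.K319.CD2
import Groth.Agent.CurvesA.DimOne
import Groth.Agent.Etcore.CurveOpen
import Groth.Agent.JacVar.K532.CurvePic

/-!
# The numerical data of a regular proper curve over an algebraically closed field

`cd`: the structure `CD` on the Picard group.
-/

set_option autoImplicit false
universe u

open CategoryTheory CategoryTheory.Limits AlgebraicGeometry TopologicalSpace IsLocalRing

namespace K319.PicCD

open Groth.Agent Groth.Agent.Fdesc.LocGen Groth.Agent.CurvesB K319.Setup K319.Base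
open Groth.Agent.Grpsch.PicGrp K532.CurvePic Groth.Agent.Dix.IdealModCartier

theorem isClosed_of_ne (X : Scheme.{u}) [IsIntegral X] (hdim : topologicalKrullDim X = 1) (x : X)
    (hx : x ≠ genericPoint X) : IsClosed ({x} : Set X) := by
  let Z : TopologicalSpace.IrreducibleCloseds X :=
    ⟨closure {x}, isIrreducible_singleton.closure, isClosed_closure⟩
  let W : TopologicalSpace.IrreducibleCloseds X :=
    ⟨closure {genericPoint X}, isIrreducible_singleton.closure, isClosed_closure⟩
  have hle : Z ≤ W := by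
    intro y _
    change y ∈ closure {genericPoint X}
    rw [genericPoint_closure]
    trivial
  have hlt : Z < W := by
    refine lt_of_le_of_ne hle fun h => hx ?_
    have h1 : closure {x} = closure {genericPoint X} :=
      congrArg (fun T : TopologicalSpace.IrreducibleCloseds X => (T : Set X)) h
    exact (inseparable_iff_closure_eq.2 h1).eq
  have h2 := Groth.Agent.CurvesA.DimOne.subsingleton_of_lt hdim.le hlt
  have h3 : closure {x} = ({x} : Set X) :=
    h2.eq_singleton_of_mem (subset_closure (Set.mem_singleton x))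
  rw [← h3]
  exact isClosed_closure

variable (k : Type u) [Field k] [IsAlgClosed k] (X : Scheme.{u}) [X.Over (Spec (CommRingCat.of k))]
  [IsIntegral X] [IsProper (X ↘ (Spec (CommRingCat.of k)))]

/-- a regular curve -/
structure Reg : Prop where
  dim : topologicalKrullDim X = 1
  reg : ∀ x : X, IsRegularLocalRing (X.presheaf.stalk x)

variable {k X} in
theorem Reg.isCurve (hX : Reg X) : IsCurve k X :=
  isCurve_of_isAlgClosed k X (isSmoothProperCurve k X hX.dim hX.reg)

/-- the closed points -/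
abbrev Pts (X : Scheme.{u}) : Type u := {P : X // IsClosed ({P} : Set X)}

include k in
omit [IsAlgClosed k] [IsIntegral X] in
theorem isNoeth : IsNoetherian X := CurveRR.isNoetherian_of_proper k X

include k in
theorem infinite_pts (hX : Reg X) : Infinite (Pts X) := by
  have := isNoeth k X
  have : JacobsonSpace X := LocallyOfFiniteType.jacobsonSpace (X ↘ (Spec (CommRingCat.of k)))
  have h1 : Infinite X := Etcore.CurveOpen.infinite_of_krullDim_eq_one X hX.dim
  have h2 : (Set.univ \ {genericPoint X} : Set X).Infinite :=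
    Set.infinite_univ.sdiff (Set.finite_singleton _)
  have h3 : (Set.univ \ {genericPoint X} : Set X) ⊆ {P | IsClosed ({P} : Set X)} := by
    rintro x ⟨-, hx⟩
    exact isClosed_of_ne X hX.dim x hx
  exact (h2.mono h3).to_subtype

/-- the class of a point, `O(P)` -/
noncomputable def pt (hX : Reg X) (P : Pts X) : Pic X :=
  (mk (ClSub.idealMod (I X P.1 P.2)) (isInvertible_idealMod (isEff_I k X hX.dim hX.reg P.1 P.2)))⁻¹

/-- the class of a point: `O(P)` is an inverse of the ideal -/
theorem exists_pt_inverse (hX : Reg X) (P : Pts X) : ∃ (M : X.Modules) (hM : PicF.IsInvertible M),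
    pt k X hX P = mk M hM ∧ Nonempty (CohB1.tensorMod M (ClSub.idealMod (I X P.1 P.2)) ≅ Coh.structureModule X) ∧
      Nonempty (CohB1.tensorMod (ClSub.idealMod (I X P.1 P.2)) M ≅ Coh.structureModule X) := by
  obtain ⟨M, hM, hpt⟩ := exists_mk (pt k X hX P)
  have hI := isInvertible_idealMod (isEff_I k X hX.dim hX.reg P.1 P.2)
  have h1 : mk M hM * mk _ hI = 1 := by
    rw [← hpt, pt, inv_mul_cancel]
  refine ⟨M, hM, hpt, ?_, ?_⟩
  · rw [mk_mul_mk, mk_eq_one_iff] at h1
    exact h1
  · rw [mul_comm, mk_mul_mk, mk_eq_one_iff] at h1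
    exact h1

theorem deg_pt (hX : Reg X) (P : Pts X) : deg k X (pt k X hX P) = 1 := by
  obtain ⟨M, hM, hpt, h1, -⟩ := exists_pt_inverse k X hX P
  rw [hpt, deg_mk k X hX.dim, Dix.InterNum.deg_of_effCartier k X hX.dim _
    (isEff_I k X hX.dim hX.reg P.1 P.2) M h1, finrank_quotMod_I]
  rfl

/-- non-base points, for classes -/
def NBc (P : X) (c : Pic X) : Prop := ∃ (L : X.Modules) (hL : PicF.IsInvertible L), c = mk L hL ∧ NB L P

variable {X} in
omit [IsIntegral X] in
theorem NBc_mk (P : X) {L : X.Modules} (hL : PicF.IsInvertible L) : NBc X P (mk L hL) ↔ NB L P := by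
  constructor
  · rintro ⟨M, hM, h, h'⟩
    obtain ⟨e⟩ := (mk_eq_iff hL hM).mp h
    exact h'.of_iso e.symm
  · intro h
    exact ⟨L, hL, rfl, h⟩

variable {X} in
omit [IsIntegral X] in
theorem NBc_mul {P : X} {c d : Pic X} (hc : NBc X P c) (hd : NBc X P d) : NBc X P (c * d) := by
  obtain ⟨L, hL, rfl, h1⟩ := hc
  obtain ⟨M, hM, rfl, h2⟩ := hd
  rw [mk_mul_mk, NBc_mk]
  exact h1.tensor h2

theorem NBc_pt (hX : Reg X) (P Q : Pts X) (hne : P ≠ Q) : NBc X P.1 (pt k X hX Q) := by
  obtain ⟨M, hM, hpt, -, ⟨e⟩⟩ := exists_pt_inverse k X hX Q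
  rw [hpt, NBc_mk]
  refine NB_of_inverse hM _ e ?_
  rw [mem_support_I]
  exact fun h => hne (Subtype.ext h)

theorem h_mul_pt_inv (P : Pts X) (hX : Reg X) {L : X.Modules} (hL : PicF.IsInvertible L) :
    h k X 0 (mk L hL * (pt k X hX P)⁻¹) =
      Module.finrank k (Coh.HH X (CohB1.tensorMod (ClSub.idealMod (I X P.1 P.2)) L) 0) := by
  rw [pt, inv_inv, mul_comm, mk_mul_mk, h_mk]

theorem h_of_NBc (hX : Reg X) (P : Pts X) (c : Pic X) :
    (NBc X P.1 c → h k X 0 (c * (pt k X hX P)⁻¹) + 1 = h k X 0 c) ∧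
      (¬ NBc X P.1 c → h k X 0 (c * (pt k X hX P)⁻¹) = h k X 0 c) := by
  obtain ⟨L, hL, rfl⟩ := exists_mk c
  rw [NBc_mk, h_mul_pt_inv, h_mk]
  exact finrank_ideal' P.1 P.2 k hX.dim hL

theorem exists_sec_of_h_ne_zero {L : X.Modules} (hL : PicF.IsInvertible L) (h0 : h k X 0 (mk L hL) ≠ 0)
    (hX : Reg X) : ∃ s : Coh.structureModule X ⟶ L, s ≠ 0 :=
  exists_hom_ne_zero (hX.isCurve (k := k)) hL (Nat.pos_of_ne_zero h0)

theorem finite_not_NBc (hX : Reg X) (c : Pic X) (h0 : h k X 0 c ≠ 0) :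
    {P : Pts X | ¬ NBc X P.1 c}.Finite := by
  have := isNoeth k X
  obtain ⟨L, hL, rfl⟩ := exists_mk c
  obtain ⟨s, hs⟩ := exists_sec_of_h_ne_zero k X hL h0 hX
  have h1 := finite_compl_genLocus (isClosed_of_ne X hX.dim) hL s hs
  refine Set.Finite.subset (h1.preimage (f := Subtype.val) Subtype.val_injective.injOn) ?_
  intro P hP hcon
  exact hP ((NBc_mk P.1 hL).mpr ⟨s, hcon⟩)

theorem h_sub_pt_ne_zero (hX : Reg X) (P : Pts X) {L : X.Modules} (hL : PicF.IsInvertible L)
    (s : Coh.structureModule X ⟶ L) (hs : s ≠ 0) (hP : P.1 ∉ CohB1.genLocus L s) :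
    h k X 0 (mk L hL * (pt k X hX P)⁻¹) ≠ 0 := by
  have := isNoeth k X
  rw [h_mul_pt_inv]
  have hmem := (mem_range_mu P.1 P.2 k hL ((HZero.equivAdd L).symm (sec s ⊤))).mpr (by
    rw [AddEquiv.apply_symm_apply]
    have : CurvesC.Gen.ofSec (sec s ⊤) = s := CurvesC.Gen.ofSec_sec s
    rwa [this])
  obtain ⟨y, hy⟩ := hmem
  have hcohI : Coh.IsCoh (CohB1.tensorMod (ClSub.idealMod (I X P.1 P.2)) L) :=
    Fga.TwistCoh.isCoh_tensor (VarietyB.DegCartier.isCoh_idealMod _) hL
  have hfin : Module.Finite k (Coh.HH X (CohB1.tensorMod (ClSub.idealMod (I X P.1 P.2)) L) 0) :=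
    S0002.result k X _ hcohI 0
  have hne : y ≠ 0 := by
    rintro rfl
    rw [map_zero] at hy
    apply hs
    apply hom_ext_sec
    have h2 : sec s ⊤ = 0 := by
      have := congrArg (HZero.equivAdd L) hy
      rw [AddEquiv.apply_symm_apply, map_zero] at this
      exact this.symm
    rw [h2]
    rfl
  have : Nontrivial (Coh.HH X (CohB1.tensorMod (ClSub.idealMod (I X P.1 P.2)) L) 0) := ⟨y, 0, hne⟩
  exact Module.finrank_pos.ne'

theorem exists_pt_of_deg_pos (hX : Reg X) (c : Pic X) (h0 : h k X 0 c ≠ 0) (hd : 0 < deg k X c) :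
    ∃ P : Pts X, h k X 0 (c * (pt k X hX P)⁻¹) ≠ 0 := by
  have := isNoeth k X
  obtain ⟨L, hL, rfl⟩ := exists_mk c
  obtain ⟨s, hs⟩ := exists_sec_of_h_ne_zero k X hL h0 hX
  have hne : CohB1.genLocus L s ≠ ⊤ := by
    intro htop
    have h1 := isGen_sec_genLocus s
    rw [htop, ← isIso_iff_isGen] at h1
    have h2 : mk L hL = 1 := (mk_eq_one_iff hL).mpr ⟨(asIso s).symm⟩
    rw [h2, deg_one] at hd
    exact lt_irrefl 0 hd
  obtain ⟨x, hx⟩ : ∃ x : X, x ∉ CohB1.genLocus L s := by
    by_contra hcon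
    push Not at hcon
    exact hne (eq_top_iff.mpr fun x _ => hcon x)
  have hxg : x ≠ genericPoint X := fun h => hx (h ▸ genericPoint_mem_genLocus hL s hs)
  exact ⟨⟨x, isClosed_of_ne X hX.dim x hxg⟩, h_sub_pt_ne_zero k X hX _ hL s hs hx⟩

/-- **The numerical data of a regular proper curve.** -/
noncomputable def cd (hX : Reg X) : CD (Additive (Pic X)) (Pts X) where
  g := gen k X
  K := Additive.ofMul (om (hX.isCurve (k := k)))
  deg := { toFun := fun a => deg k X a.toMul
           map_zero' := deg_one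
           map_add' := fun a b => deg_mul (hX.isCurve (k := k)) a.toMul b.toMul }
  h := fun a => h k X 0 a.toMul
  p := fun P => Additive.ofMul (pt k X hX P)
  nb := fun P a => NBc X P.1 a.toMul
  deg_p := fun P => deg_pt k X hX P
  h_of_nb := fun P a ha => by
    have h1 := (h_of_NBc k X hX P a.toMul).1 ha
    rwa [← div_eq_mul_inv] at h1
  h_of_not_nb := fun P a ha => by
    have h1 := (h_of_NBc k X hX P a.toMul).2 ha
    rwa [← div_eq_mul_inv] at h1
  nb_add := fun P a b ha hb => NBc_mul ha hb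
  nb_p := fun P Q hPQ => NBc_pt k X hX P Q hPQ
  h_zero := h0_one (hX.isCurve (k := k))
  eq_zero := fun a hd ha => eq_one_of_deg_nonpos (hX.isCurve (k := k)) (Nat.pos_of_ne_zero ha) (le_of_eq hd)
  h_neg := fun a hd => h0_eq_zero_of_deg_neg (hX.isCurve (k := k)) hd
  rr := fun a => by
    have h1 := rr' (hX.isCurve (k := k)) a.toMul
    rw [← div_eq_mul_inv] at h1
    change (h k X 0 a.toMul : ℤ) = h k X 0 (om (hX.isCurve (k := k)) / a.toMul) + deg k X a.toMul + 1 - gen k X
    linarith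
  finite_not_nb := fun a ha => finite_not_NBc k X hX a.toMul ha
  infinite := infinite_pts k X hX
  exists_pt := fun a ha hd => by
    obtain ⟨P, hP⟩ := exists_pt_of_deg_pos k X hX a.toMul ha hd
    rw [← div_eq_mul_inv] at hP
    exact ⟨P, hP⟩

end K319.PicCD
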