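import Groth.Prelude.Def_MeroDiv
import Groth.Agent.Ega4late.H532.Spread
import Mathlib.RingTheory.Ideal.MinimalPrime.Localization

/-!
# Absolute curves: local rings at nonclosed points, regular germs
-/

set_option autoImplicit false
universe u

open CategoryTheory CategoryTheory.Limits AlgebraicGeometry TopologicalSpace Mero

namespace K319.AbsCurve

variable {C : Scheme.{u}}

/-- the curve condition -/
def AC (C : Scheme.{u}) : Prop :=
  ∀ x : C, IsClosed ({x} : Set C) → ringKrullDim (C.presheaf.stalk x) = 1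

theorem eq_or_eq (X : Scheme.{u}) (a b c : X) (h1 : a ⤳ b) (h2 : b ⤳ c)
    (hc : ringKrullDim (X.presheaf.stalk c) ≤ 1) : a = b ∨ b = c := by
  by_contra hne
  push Not at hne
  obtain ⟨hab, hbc⟩ := hne
  rw [AlgebraicGeometry.ringKrullDim_stalk_eq_coheight] at hc
  have l1 : b < a := ⟨h1, fun h => hab (h1.antisymm h).eq⟩
  have l2 : c < b := ⟨h2, fun h => hbc (h2.antisymm h).eq⟩
  have e1 := Order.coheight_add_one_le l1
  have e2 := Order.coheight_add_one_le l2
  have e3 : (2 : ℕ∞) ≤ Order.coheight c :=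
    calc (2 : ℕ∞) = 0 + 1 + 1 := by norm_num
      _ ≤ Order.coheight a + 1 + 1 := by gcongr; exact zero_le
      _ ≤ Order.coheight b + 1 := by gcongr
      _ ≤ Order.coheight c := e2
  have e4 : Order.coheight c ≤ 1 := by exact_mod_cast hc
  exact absurd (e3.trans e4) (by decide)

/-- Every point specializes to a closed point. -/
theorem exists_closed (X : Scheme.{u}) [CompactSpace X] (y : X) : ∃ x : X, y ⤳ x ∧ IsClosed ({x} : Set X) := by
  obtain ⟨x, hx, hc⟩ := (isClosed_closure (s := ({y} : Set X))).exists_closed_singleton ⟨y, subset_closure rfl⟩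
  exact ⟨x, specializes_iff_mem_closure.mpr hx, hc⟩

/-- A nonclosed point of an absolute curve has no proper generization. -/
theorem eq_of_specializes [CompactSpace C] (hC : AC C) {y : C} (hy : ¬ IsClosed ({y} : Set C)) {a : C}
    (ha : a ⤳ y) : a = y := by
  obtain ⟨x, hyx, hx⟩ := exists_closed C y
  rcases eq_or_eq C a y x ha hyx (hC x hx).le with h | h
  · exact h
  · subst h
    exact absurd hx hy

theorem isUnit_of_nonclosed [CompactSpace C] (hC : AC C) {y : C} (hy : ¬ IsClosed ({y} : Set C))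
    {a : C.presheaf.stalk y} (ha : a ∈ nonZeroDivisors (C.presheaf.stalk y)) : IsUnit a := by
  by_contra hu
  have hmin : IsLocalRing.maximalIdeal (C.presheaf.stalk y) ∈ minimalPrimes (C.presheaf.stalk y) := by
    refine ⟨⟨inferInstance, bot_le⟩, ?_⟩
    rintro q ⟨hq, -⟩ -
    let Q : PrimeSpectrum (C.presheaf.stalk y) := ⟨q, hq⟩
    have h1 : C.fromSpecStalk y Q ⤳ y := by
      have h1 : C.fromSpecStalk y Q ∈ Set.range (C.fromSpecStalk y) := ⟨Q, rfl⟩
      rw [Scheme.range_fromSpecStalk] at h1
      exact h1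
    have h2 := eq_of_specializes hC hy h1
    have h3 : Q = IsLocalRing.closedPoint (C.presheaf.stalk y) := by
      apply (C.fromSpecStalk y).isEmbedding.injective
      rw [h2, Scheme.fromSpecStalk_closedPoint]
    have h4 : q = IsLocalRing.maximalIdeal (C.presheaf.stalk y) := congrArg PrimeSpectrum.asIdeal h3
    exact h4.ge
  exact notMem_nonZeroDivisors_of_mem_mem_minimalPrimes ((IsLocalRing.mem_maximalIdeal a).mpr hu) hmin ha

/-- On a locally Noetherian scheme every nonzerodivisor of a local ring is the germ of a regular section. -/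
theorem mem_regStalk [IsLocallyNoetherian C] {x : C} {a : C.presheaf.stalk x}
    (ha : a ∈ nonZeroDivisors (C.presheaf.stalk x)) : a ∈ regStalk C x := by
  obtain ⟨U, hx, f, hf, hspan⟩ := Groth.Agent.Ega4late.H532.Spread.exists_nzd_section x a ha
  have hreg : f ∈ regSub C U.1 := fun y =>
    Groth.Agent.Ega4late.H532.Spread.germ_mem_nonZeroDivisors U.2 y.2 hf
  obtain ⟨v, hv⟩ := Ideal.mem_span_singleton'.mp (hspan.le (Ideal.mem_span_singleton_self _))
  obtain ⟨w, hw⟩ := Ideal.mem_span_singleton'.mp (hspan.ge (Ideal.mem_span_singleton_self _))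
  -- `w` is a unit
  have hwu : IsUnit w := by
    have h1 : v * w = 1 := by
      have h2 : (v * w) * C.presheaf.germ U.1 x hx f = 1 * C.presheaf.germ U.1 x hx f := by
        rw [mul_assoc, hw, hv, one_mul]
      exact (mem_nonZeroDivisors_iff_right.mp (hreg ⟨x, hx⟩) |> fun h => by
        have h3 : (v * w - 1) * C.presheaf.germ U.1 x hx f = 0 := by rw [sub_mul, h2, sub_self]
        exact sub_eq_zero.mp (h _ h3))
    exact IsUnit.of_mul_eq_one v (by rw [mul_comm]; exact h1)
  obtain ⟨V, hxV, g, hg⟩ := C.presheaf.exists_germ_eq w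
  let W : C.Opens := U.1 ⊓ C.basicOpen g
  have hxg : x ∈ C.basicOpen g := by rw [Scheme.mem_basicOpen _ _ _ hxV, hg]; exact hwu
  have hxW : x ∈ W := ⟨hx, hxg⟩
  refine ⟨W, hxW, C.presheaf.map (homOfLE (inf_le_right.trans (C.basicOpen_le g)) : W ⟶ V).op g *
    C.presheaf.map (homOfLE inf_le_left : W ⟶ U.1).op f, ?_, ?_⟩
  · refine Submonoid.mul_mem _ ?_ (regSub_res _ hreg)
    intro y
    have h1 : IsUnit (C.presheaf.germ V y.1 ((C.basicOpen_le g) y.2.2) g) :=
      (Scheme.mem_basicOpen _ _ _ _).mp y.2.2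
    have h2 := TopCat.Presheaf.germ_res_apply C.presheaf
      (homOfLE (inf_le_right.trans (C.basicOpen_le g)) : W ⟶ V) y.1 y.2 g
    change C.presheaf.germ W y.1 y.2 (C.presheaf.map _ g) ∈ _
    rw [h2]
    exact h1.mem_nonZeroDivisors
  · rw [map_mul, TopCat.Presheaf.germ_res_apply, TopCat.Presheaf.germ_res_apply, hg, hw]

end K319.AbsCurve
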