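import Groth.Agent.Curves.K319.AbsCurve
import Mathlib.Topology.NoetherianSpace
import Mathlib.Topology.Sober

/-!
# Divisors on absolute curves are finite families of germs
-/

set_option autoImplicit false
universe u

open CategoryTheory CategoryTheory.Limits AlgebraicGeometry TopologicalSpace Mero

namespace K319.AbsCurve

variable {C : Scheme.{u}}

/-- the class in `K_{C,x}ˣ/O_{C,x}ˣ` of a regular germ -/
noncomputable def cls {x : C} (a : regStalk C x) : Germ C x :=
  QuotientGroup.mk (IsLocalization.map_units (KStalk C x) a).unit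

theorem cls_eq_one_iff {x : C} (a : regStalk C x) : cls a = 1 ↔ IsUnit (a : C.presheaf.stalk x) := by
  unfold cls
  rw [QuotientGroup.eq_one_iff]
  constructor
  · rintro ⟨v, hv⟩
    have h1 : algebraMap (C.presheaf.stalk x) (KStalk C x) v = algebraMap _ _ (a : C.presheaf.stalk x) := by
      have := congrArg Units.val hv
      exact this
    rw [← algebraMap_KStalk_injective x h1]
    exact v.isUnit
  · intro h
    exact ⟨h.unit, Units.ext rfl⟩

theorem exists_cls [IsLocallyNoetherian C] {x : C} (g : Germ C x) :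
    ∃ a b : regStalk C x, g = cls a / cls b := by
  obtain ⟨g, rfl⟩ := QuotientGroup.mk_surjective g
  obtain ⟨⟨r, s⟩, hrs⟩ := IsLocalization.surj (regStalk C x) (g : KStalk C x)
  simp only at hrs
  have hu : IsUnit (algebraMap (C.presheaf.stalk x) (KStalk C x) r) := by
    rw [← hrs]
    exact g.isUnit.mul (IsLocalization.map_units _ s)
  have hr : r ∈ nonZeroDivisors (C.presheaf.stalk x) := by
    rw [mem_nonZeroDivisors_iff_right]
    intro c hc
    apply algebraMap_KStalk_injective x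
    rw [map_zero]
    have := congrArg (algebraMap (C.presheaf.stalk x) (KStalk C x)) hc
    rw [map_mul, map_zero] at this
    exact (hu.mul_left_eq_zero).mp this
  refine ⟨⟨r, mem_regStalk hr⟩, s, ?_⟩
  rw [eq_div_iff_mul_eq', cls, cls, ← QuotientGroup.mk_mul]
  congr 1
  apply Units.ext
  rw [Units.val_mul, IsUnit.unit_spec, IsUnit.unit_spec]
  exact hrs

theorem germ_eq_one_of_nonclosed [IsNoetherian C] (hC : AC C) {x : C} (hx : ¬ IsClosed ({x} : Set C))
    (g : Germ C x) : g = 1 := by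
  obtain ⟨a, b, rfl⟩ := exists_cls g
  rw [(cls_eq_one_iff a).mpr (isUnit_of_nonclosed hC hx (regStalk_le_nonZeroDivisors x a.2)),
    (cls_eq_one_iff b).mpr (isUnit_of_nonclosed hC hx (regStalk_le_nonZeroDivisors x b.2)), div_one]

/-- a regular section as a unit of the sheaf of meromorphic functions -/
noncomputable def regUnit {U : C.Opens} (f : regSub C U) : (Γ(kmod C, U))ˣ where
  val := toK C U f.1
  inv := ⟨fun x => LocalizedModule.mk 1 (regGerm x f), fun x => ⟨U, x.2, 𝟙 _, 1, f, fun y => by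
    dsimp only
    refine mk_congr ?_ rfl
    exact (map_one (C.presheaf.germ U y.1 y.2).hom).symm⟩⟩
  val_inv := by
    refine Subtype.ext (funext fun x => ?_)
    change LocalizedModule.mk _ 1 * LocalizedModule.mk 1 _ = (1 : KStalk C x.1)
    refine LocalizedModule.mk_mul_mk.trans ?_
    rw [mul_one, one_mul]
    exact mk_self_eq_one (regGerm x f)
  inv_val := by
    refine Subtype.ext (funext fun x => ?_)
    change LocalizedModule.mk 1 _ * LocalizedModule.mk _ 1 = (1 : KStalk C x.1)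
    refine LocalizedModule.mk_mul_mk.trans ?_
    rw [mul_one, one_mul]
    exact mk_self_eq_one (regGerm x f)

theorem germOf_regUnit {U : C.Opens} (f : regSub C U) (y : U) : germOf (regUnit f) y = cls (regGerm y f) := by
  unfold germOf cls
  refine congrArg _ (Units.ext ?_)
  rw [IsUnit.unit_spec]
  rfl

/-- Locally a divisor is the quotient of two regular sections. -/
theorem exists_local (D : Divisor C) (x : C) :
    ∃ (U : C.Opens) (_ : x ∈ U) (a b : regSub C U), ∀ y : U, D.1 y.1 = cls (regGerm y a) / cls (regGerm y b) := by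
  obtain ⟨U, hx, f, hf⟩ := D.2 x
  obtain ⟨V, hxV, i, a, b, hab⟩ := f.1.2 ⟨x, hx⟩
  have hval : ∀ y : V, algebraMap (C.presheaf.stalk y.1) (KStalk C y.1) (C.presheaf.germ V y.1 y.2 a) =
      (evalK C U ⟨y.1, i.le y.2⟩ f.1) * algebraMap _ _ (regGerm y b : C.presheaf.stalk y.1) := by
    intro y
    have h1 : evalK C U ⟨y.1, i.le y.2⟩ f.1 = LocalizedModule.mk (C.presheaf.germ V y.1 y.2 a) (regGerm y b) :=
      hab y
    rw [h1]
    change (LocalizedModule.mk (C.presheaf.germ V y.1 y.2 a) 1 : KStalk C y.1) =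
      LocalizedModule.mk (C.presheaf.germ V y.1 y.2 a) (regGerm y b) *
        LocalizedModule.mk (regGerm y b : C.presheaf.stalk y.1) 1
    refine Eq.trans ?_ LocalizedModule.mk_mul_mk.symm
    refine LocalizedModule.mk_eq.mpr ⟨1, ?_⟩
    simp only [Submonoid.smul_def, smul_eq_mul, Submonoid.coe_one, one_mul, mul_one]
    ring
  have ha : a ∈ regSub C V := by
    intro y
    have hu : IsUnit (algebraMap (C.presheaf.stalk y.1) (KStalk C y.1) (C.presheaf.germ V y.1 y.2 a)) := by
      rw [hval y]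
      exact (f.isUnit.map (evalK C U ⟨y.1, i.le y.2⟩)).mul (IsLocalization.map_units _ (regGerm y b))
    rw [mem_nonZeroDivisors_iff_right]
    intro c hc
    apply algebraMap_KStalk_injective y.1
    rw [map_zero]
    have := congrArg (algebraMap (C.presheaf.stalk y.1) (KStalk C y.1)) hc
    rw [map_mul, map_zero] at this
    exact (hu.mul_left_eq_zero).mp this
  refine ⟨V, hxV, ⟨a, ha⟩, b, fun y => ?_⟩
  rw [hf ⟨y.1, i.le y.2⟩, eq_div_iff_mul_eq', cls, cls, germOf, ← QuotientGroup.mk_mul]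
  congr 1
  apply Units.ext
  rw [Units.val_mul, IsUnit.unit_spec, IsUnit.unit_spec]
  exact (hval y).symm

/-- A Noetherian scheme: a closed subset of an open, all of whose points are closed, is finite. -/
theorem finite_of_closedPoints [IsNoetherian C] (V : C.Opens) (Z : Set C) (hZ : IsClosed Z)
    (h : ∀ y ∈ Z, y ∈ V → IsClosed ({y} : Set C)) : (Z ∩ V).Finite := by
  have : NoetherianSpace C := inferInstance
  obtain ⟨S, hS, hcl, hirr, hun⟩ := NoetherianSpace.exists_finite_set_isClosed_irreducible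
    (isClosed_closure (s := Z ∩ (V : Set C)))
  have hsub : Z ∩ (V : Set C) ⊆ ⋃ t ∈ S, {y : C | y ∈ t ∧ y ∈ Z ∩ (V : Set C) ∧ t = {y}} := by
    intro y hy
    have h1 : y ∈ ⋃₀ S := by
      rw [← hun]
      exact subset_closure hy
    obtain ⟨t, ht, hyt⟩ := h1
    obtain ⟨η, hη⟩ := QuasiSober.sober (hirr t ht) (hcl t ht)
    have h2 : η ⤳ y := hη.specializes hyt
    have h3 : η ∈ Z := by
      have h4 : η ∈ closure (Z ∩ (V : Set C)) := by
        rw [hun]
        exact ⟨t, ht, hη.mem⟩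
      exact closure_minimal Set.inter_subset_left hZ h4
    have h4 : η ∈ (V : Set C) := h2.mem_open V.2 hy.2
    have h5 : t = {η} := by
      rw [← hη.def]
      exact (h η h3 h4).closure_eq
    have h6 : y = η := by
      rw [h5] at hyt
      exact hyt
    simp only [Set.mem_iUnion, Set.mem_ofPred_eq]
    exact ⟨t, ht, hyt, hy, by rw [h6]; exact h5⟩
  refine Set.Finite.subset (Set.Finite.biUnion hS ?_) hsub
  intro t ht
  refine Set.Subsingleton.finite ?_
  rintro y ⟨-, -, hy⟩ z ⟨-, -, hz⟩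
  exact Set.singleton_injective (hy.symm.trans hz)

theorem finite_nonunit [IsNoetherian C] (hC : AC C) {V : C.Opens} (f : regSub C V) :
    {y : C | y ∈ V ∧ y ∉ C.basicOpen f.1}.Finite := by
  have h := finite_of_closedPoints V ((C.basicOpen f.1 : Set C)ᶜ) (C.basicOpen f.1).2.isClosed_compl ?_
  · refine h.subset ?_
    rintro y ⟨h1, h2⟩
    exact ⟨h2, h1⟩
  · intro y h1 h2
    by_contra hcon
    apply h1
    rw [SetLike.mem_coe, Scheme.mem_basicOpen _ _ _ h2]
    exact isUnit_of_nonclosed hC hcon (f.2 ⟨y, h2⟩)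

/-- Locally the nontrivial germs of a quotient of regular sections are finite in number. -/
theorem finite_quot [IsNoetherian C] (hC : AC C) {V : C.Opens} (a b : regSub C V) (g : ∀ x : C, Germ C x)
    (hg : ∀ y : V, g y.1 = cls (regGerm y a) / cls (regGerm y b)) :
    {y : C | y ∈ V ∧ g y ≠ 1}.Finite := by
  refine ((finite_nonunit hC a).union (finite_nonunit hC b)).subset ?_
  rintro y ⟨hy, h1⟩
  by_contra hcon
  simp only [Set.mem_union, Set.mem_ofPred_eq, not_or, not_and, not_not] at hcon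
  apply h1
  rw [hg ⟨y, hy⟩, (cls_eq_one_iff _).mpr, (cls_eq_one_iff _).mpr, div_one]
  · exact (Scheme.mem_basicOpen _ _ _ hy).mp (hcon.2 hy)
  · exact (Scheme.mem_basicOpen _ _ _ hy).mp (hcon.1 hy)

theorem finite_supp [IsNoetherian C] (hC : AC C) (D : Divisor C) : {y : C | D.1 y ≠ 1}.Finite := by
  choose U hU a b hab using exists_local D
  obtain ⟨t, ht⟩ := (isCompact_univ (X := C)).elim_finite_subcover (fun x => (U x : Set C)) (fun x => (U x).2)
    (fun x _ => Set.mem_iUnion.mpr ⟨x, hU x⟩)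
  refine (Set.Finite.biUnion t.finite_toSet fun x _ => finite_quot hC (a x) (b x) D.1 (hab x)).subset ?_
  intro y hy
  obtain ⟨x, hx, hyx⟩ := Set.mem_iUnion₂.mp (ht trivial)
  exact Set.mem_iUnion₂.mpr ⟨x, hx, hyx, hy⟩

theorem mem_of_finite [IsNoetherian C] (hC : AC C) (g : ∀ x : C, Germ C x) (hg : {x : C | g x ≠ 1}.Finite)
    (hg' : ∀ x : C, ¬ IsClosed ({x} : Set C) → g x = 1) : g ∈ divisorGroup C := by
  intro x
  obtain ⟨a, b, hab⟩ := exists_cls (g x)
  obtain ⟨U, hxU, f, hf, hfa⟩ := a.2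
  obtain ⟨V, hxV, h, hh, hhb⟩ := b.2
  let W : C.Opens := U ⊓ V
  let f' : regSub C W := ⟨C.presheaf.map (homOfLE inf_le_left : W ⟶ U).op f, regSub_res _ hf⟩
  let h' : regSub C W := ⟨C.presheaf.map (homOfLE inf_le_right : W ⟶ V).op h, regSub_res _ hh⟩
  have hxW : x ∈ W := ⟨hxU, hxV⟩
  -- the finite set to remove
  let T : Set C := (({y | y ∈ W ∧ y ∉ C.basicOpen f'.1} ∪ {y | y ∈ W ∧ y ∉ C.basicOpen h'.1}) ∪ {y | g y ≠ 1}) \ {x}
  have hTf : T.Finite := (((finite_nonunit hC f').union (finite_nonunit hC h')).union hg).subset Set.sdiff_subset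
  have hTc : ∀ y ∈ T, IsClosed ({y} : Set C) := by
    rintro y ⟨(⟨h1, h2⟩ | ⟨h1, h2⟩) | h1, -⟩
    · by_contra hcon
      apply h2
      rw [Scheme.mem_basicOpen _ _ _ h1]
      exact isUnit_of_nonclosed hC hcon (f'.2 ⟨y, h1⟩)
    · by_contra hcon
      apply h2
      rw [Scheme.mem_basicOpen _ _ _ h1]
      exact isUnit_of_nonclosed hC hcon (h'.2 ⟨y, h1⟩)
    · by_contra hcon
      exact h1 (hg' y hcon)
  have hTcl : IsClosed T := by
    rw [← Set.biUnion_of_singleton T]
    exact hTf.isClosed_biUnion hTc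
  let W' : C.Opens := W ⊓ ⟨Tᶜ, hTcl.isOpen_compl⟩
  have hxW' : x ∈ W' := ⟨hxW, fun h => h.2 rfl⟩
  let f'' : regSub C W' := ⟨C.presheaf.map (homOfLE inf_le_left : W' ⟶ W).op f'.1, regSub_res _ f'.2⟩
  let h'' : regSub C W' := ⟨C.presheaf.map (homOfLE inf_le_left : W' ⟶ W).op h'.1, regSub_res _ h'.2⟩
  refine ⟨W', hxW', regUnit f'' / regUnit h'', fun y => ?_⟩
  have e1 : germOf (regUnit f'' / regUnit h'') y = germOf (regUnit f'') y / germOf (regUnit h'') y := by
    unfold germOf
    rw [map_div, QuotientGroup.mk_div]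
  rw [e1, germOf_regUnit, germOf_regUnit]
  have ef : C.presheaf.germ W' y.1 y.2 f''.1 = C.presheaf.germ W y.1 y.2.1 f'.1 :=
    TopCat.Presheaf.germ_res_apply _ _ _ _ _
  have eh : C.presheaf.germ W' y.1 y.2 h''.1 = C.presheaf.germ W y.1 y.2.1 h'.1 :=
    TopCat.Presheaf.germ_res_apply _ _ _ _ _
  by_cases hyx : y.1 = x
  · obtain ⟨y, hy⟩ := y
    dsimp only at hyx
    subst hyx
    rw [hab]
    have ef' : C.presheaf.germ W y hy.1 f'.1 = C.presheaf.germ U y hxU f := TopCat.Presheaf.germ_res_apply _ _ _ _ _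
    have eh' : C.presheaf.germ W y hy.1 h'.1 = C.presheaf.germ V y hxV h := TopCat.Presheaf.germ_res_apply _ _ _ _ _
    congr 1
    · congr 1
      apply Subtype.ext
      exact (hfa.symm.trans ef'.symm).trans ef.symm
    · congr 1
      apply Subtype.ext
      exact (hhb.symm.trans eh'.symm).trans eh.symm
  · have hnT : y.1 ∉ T := y.2.2
    have h1 : y.1 ∉ (({y | y ∈ W ∧ y ∉ C.basicOpen f'.1} ∪ {y | y ∈ W ∧ y ∉ C.basicOpen h'.1}) ∪ {y | g y ≠ 1}) :=
      fun h => hnT ⟨h, hyx⟩
    simp only [Set.mem_union, Set.mem_ofPred_eq, not_or, not_and, not_not] at h1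
    rw [h1.2, (cls_eq_one_iff _).mpr, (cls_eq_one_iff _).mpr, div_one]
    · change IsUnit (C.presheaf.germ W' y.1 y.2 h''.1)
      rw [eh]
      exact (Scheme.mem_basicOpen _ _ _ y.2.1).mp (h1.1.2 y.2.1)
    · change IsUnit (C.presheaf.germ W' y.1 y.2 f''.1)
      rw [ef]
      exact (Scheme.mem_basicOpen _ _ _ y.2.1).mp (h1.1.1 y.2.1)

theorem mem_divisorGroup_iff [IsNoetherian C] (hC : AC C) (g : ∀ x : C, Germ C x) :
    g ∈ divisorGroup C ↔ ({x : C | g x ≠ 1}.Finite ∧ ∀ x : C, ¬ IsClosed ({x} : Set C) → g x = 1) :=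
  ⟨fun h => ⟨finite_supp hC ⟨g, h⟩, fun x hx => germ_eq_one_of_nonclosed hC hx _⟩,
    fun h => mem_of_finite hC g h.1 h.2⟩

end K319.AbsCurve
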