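import Groth.Agent.Curves.K319.AbsDiv
import Mathlib.RingTheory.Ideal.AssociatedPrime.Finiteness

/-!
# Effective divisors on absolute curves
-/

set_option autoImplicit false
universe u

open CategoryTheory CategoryTheory.Limits AlgebraicGeometry TopologicalSpace Mero

namespace K319.AbsCurve

variable {C : Scheme.{u}}

theorem exists_nonunit [IsNoetherian C] {y : C}
    (h : ¬ ∃ c : C.presheaf.stalk y, c ≠ 0 ∧ ∀ r ∈ IsLocalRing.maximalIdeal (C.presheaf.stalk y), r * c = 0) :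
    ∃ a ∈ nonZeroDivisors (C.presheaf.stalk y), ¬ IsUnit a := by
  by_contra hcon
  push Not at hcon
  have h1 : (IsLocalRing.maximalIdeal (C.presheaf.stalk y) : Set (C.presheaf.stalk y)) ⊆
      ⋃ p ∈ associatedPrimes (C.presheaf.stalk y) (C.presheaf.stalk y), (p : Set (C.presheaf.stalk y)) := by
    rw [biUnion_associatedPrimes_eq_compl_nonZeroDivisors]
    intro a ha ha'
    exact (IsLocalRing.mem_maximalIdeal a).mp ha (hcon a ha')
  obtain ⟨p, hp, hmp⟩ := (Ideal.subset_union_prime_finite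
    (associatedPrimes.finite (C.presheaf.stalk y) (C.presheaf.stalk y)) (f := fun i => i) ⊥ ⊥
    (fun i hi _ _ => hi.1)).mp h1
  have hpp : p.IsPrime := hp.1
  have h2 : IsLocalRing.maximalIdeal (C.presheaf.stalk y) = p :=
    (IsLocalRing.maximalIdeal.isMaximal _).eq_of_le hpp.ne_top hmp
  rw [AssociatedPrimes.mem_iff, isAssociatedPrime_iff] at hp
  obtain ⟨-, c, hc⟩ := hp
  apply h
  refine ⟨c, ?_, ?_⟩
  · rintro rfl
    apply hpp.ne_top
    rw [hc]
    ext r
    simp [Submodule.mem_colon_singleton]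
  · intro r hr
    rw [h2, hc, Submodule.mem_colon_singleton, Submodule.mem_bot] at hr
    exact hr

theorem exists_point [IsNoetherian C] (hC : AC C) (hpt : ∀ x : C, ¬ IsOpen ({x} : Set C)) (U : C.Opens)
    (hU : Dense (U : Set C)) (Z : Set C) (hZ : Z ∈ irreducibleComponents (C : Type u)) :
    ∃ y ∈ (U : Set C) ∩ Z, ∃ a : regStalk C y, ¬ IsUnit (a : C.presheaf.stalk y) := by
  have : NoetherianSpace C := inferInstance
  obtain ⟨o, ho, hne, hoZ⟩ := NoetherianSpace.exists_isOpen_nonempty_subset_irreducibleComponent Z hZ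
  have hZirr : IsIrreducible Z := hZ.1
  have hZcl : IsClosed Z := isClosed_of_mem_irreducibleComponents Z hZ
  obtain ⟨η, hη⟩ := QuasiSober.sober hZirr hZcl
  obtain ⟨p, hp⟩ := hU.inter_open_nonempty o ho hne
  have hηp : η ⤳ p := hη.specializes (hoZ hp.1)
  have hηo : η ∈ o := hηp.mem_open ho hp.1
  have hηU : η ∈ (U : Set C) := hηp.mem_open U.2 hp.2
  have hηc : ¬ IsClosed ({η} : Set C) := by
    intro hcl
    apply hpt η
    have h1 : Z = {η} := by rw [← hη.def]; exact hcl.closure_eq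
    have h2 : o = {η} := by
      apply Set.Subset.antisymm
      · rw [← h1]; exact hoZ
      · rintro _ rfl; exact hηo
    rw [← h2]
    exact ho
  obtain ⟨V, hηV⟩ := Groth.Agent.Divis.CartierBasic.exists_affine η
  let F : Set C := {y : C | ∃ h : y ∈ V.1, ∃ c ∉ Ideal.span {C.presheaf.germ V.1 y h 0},
      ∀ r ∈ IsLocalRing.maximalIdeal (C.presheaf.stalk y),
        r * c ∈ Ideal.span {C.presheaf.germ V.1 y h 0}}
  have hF : F.Finite := Groth.Agent.Ega4late.H532.Spread.finite_socle V.2 0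
  let F' : Set C := F ∩ {y | IsClosed ({y} : Set C)}
  have hF' : IsClosed F' := by
    rw [← Set.biUnion_of_singleton F']
    exact (hF.subset Set.inter_subset_left).isClosed_biUnion fun y hy => hy.2
  let O : Set C := (o ∩ (U : Set C)) ∩ ((V.1 : Set C) ∩ F'ᶜ)
  have hO : IsOpen O := (ho.inter U.2).inter (V.1.2.inter hF'.isOpen_compl)
  have hηO : η ∈ O := ⟨⟨hηo, hηU⟩, hηV, fun h => hηc h.2⟩
  obtain ⟨y, hyO, hyη⟩ : ∃ y ∈ O, y ≠ η := by
    by_contra hcon
    push Not at hcon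
    apply hpt η
    have : O = {η} := Set.Subset.antisymm (fun y hy => hcon y hy) (by rintro _ rfl; exact hηO)
    rw [← this]
    exact hO
  have hηy : η ⤳ y := hη.specializes (hoZ hyO.1.1)
  have hycl : IsClosed ({y} : Set C) := by
    by_contra hcon
    exact hyη (eq_of_specializes hC hcon hηy).symm
  have hyF : y ∉ F := fun h => hyO.2.2 ⟨h, hycl⟩
  obtain ⟨a, ha, hau⟩ := exists_nonunit (y := y) (by
    rintro ⟨c, hc, hc'⟩
    apply hyF
    refine ⟨hyO.2.1, c, ?_, fun r hr => ?_⟩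
    · rw [map_zero, Ideal.mem_span_singleton, zero_dvd_iff]
      exact hc
    · rw [hc' r hr]
      exact zero_mem _)
  exact ⟨y, ⟨hyO.1.2, hoZ hyO.1.1⟩, ⟨a, mem_regStalk ha⟩, hau⟩

theorem exists_effective [IsNoetherian C] (hC : AC C) (hpt : ∀ x : C, ¬ IsOpen ({x} : Set C)) (U : C.Opens)
    (hU : Dense (U : Set C)) :
    ∃ D : Divisor C, IsEffective D ∧ supp D ⊆ (U : Set C) ∧
      ∀ Z ∈ irreducibleComponents (C : Type u), (supp D ∩ Z).Nonempty := by
  classical
  have : NoetherianSpace C := inferInstance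
  choose y hy a ha using exists_point hC hpt U hU
  let T : Set C := ⋃ Z : irreducibleComponents (C : Type u), {y Z.1 Z.2}
  have hfin : Finite (irreducibleComponents (C : Type u)) := NoetherianSpace.finite_irreducibleComponents
  have hT : T.Finite := Set.finite_iUnion fun _ => Set.finite_singleton _
  have hTa : ∀ x ∈ T, ∃ a : regStalk C x, ¬ IsUnit (a : C.presheaf.stalk x) := by
    intro x hx
    obtain ⟨Z, hZ⟩ := Set.mem_iUnion.mp hx
    obtain rfl : x = y Z.1 Z.2 := hZ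
    exact ⟨a Z.1 Z.2, ha Z.1 Z.2⟩
  choose b hb using hTa
  let g : ∀ x : C, Germ C x := fun x => if hx : x ∈ T then cls (b x hx) else 1
  have hg1 : ∀ x, x ∉ T → g x = 1 := fun x hx => dif_neg hx
  have hg2 : ∀ x (hx : x ∈ T), g x = cls (b x hx) := fun x hx => dif_pos hx
  have hgm : g ∈ divisorGroup C := mem_of_finite hC g
    (hT.subset fun x hx => by
      by_contra hcon
      exact hx (hg1 x hcon)) (fun x hx => germ_eq_one_of_nonclosed hC hx _)
  have hgT : ∀ x ∈ T, g x ≠ 1 := by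
    intro x hx h
    rw [hg2 x hx, cls_eq_one_iff] at h
    exact hb x hx h
  refine ⟨⟨g, hgm⟩, ?_, ?_, ?_⟩
  · intro x
    by_cases hx : x ∈ T
    · exact ⟨b x hx, hg2 x hx⟩
    · refine ⟨1, (hg1 x hx).trans ?_⟩
      exact ((cls_eq_one_iff (1 : regStalk C x)).mpr isUnit_one).symm
  · intro x hx
    have hxT : x ∈ T := by
      by_contra hcon
      exact hx (hg1 x hcon)
    obtain ⟨Z, hZ⟩ := Set.mem_iUnion.mp hxT
    obtain rfl : x = y Z.1 Z.2 := hZ
    exact (hy Z.1 Z.2).1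
  · intro Z hZ
    have h1 : y Z hZ ∈ T := Set.mem_iUnion.mpr ⟨⟨Z, hZ⟩, rfl⟩
    exact ⟨y Z hZ, hgT _ h1, (hy Z hZ).2⟩

theorem exists_quot [IsNoetherian C] (hC : AC C) (D : Divisor C) :
    ∃ D₁ D₂ : Divisor C, IsEffective D₁ ∧ IsEffective D₂ ∧ D = D₁ * D₂⁻¹ ∧
      supp D₁ ⊆ supp D ∧ supp D₂ ⊆ supp D := by
  classical
  choose a b hab using fun x => exists_cls (D.1 x)
  let g : ∀ x : C, Germ C x := fun x => if D.1 x = 1 then 1 else cls (a x)
  let h : ∀ x : C, Germ C x := fun x => if D.1 x = 1 then 1 else cls (b x)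
  have hg1 : ∀ x, D.1 x = 1 → g x = 1 := fun x hx => if_pos hx
  have hg2 : ∀ x, D.1 x ≠ 1 → g x = cls (a x) := fun x hx => if_neg hx
  have hh1 : ∀ x, D.1 x = 1 → h x = 1 := fun x hx => if_pos hx
  have hh2 : ∀ x, D.1 x ≠ 1 → h x = cls (b x) := fun x hx => if_neg hx
  have hfin := finite_supp hC D
  have hgm : g ∈ divisorGroup C := mem_of_finite hC g (hfin.subset fun x hx hx' => hx (hg1 x hx'))
    (fun x hx => germ_eq_one_of_nonclosed hC hx _)
  have hhm : h ∈ divisorGroup C := mem_of_finite hC h (hfin.subset fun x hx hx' => hx (hh1 x hx'))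
    (fun x hx => germ_eq_one_of_nonclosed hC hx _)
  have h1 : ∀ x : C, (1 : Germ C x) = cls (1 : regStalk C x) := fun x =>
    ((cls_eq_one_iff (1 : regStalk C x)).mpr isUnit_one).symm
  refine ⟨⟨g, hgm⟩, ⟨h, hhm⟩, ?_, ?_, ?_, ?_, ?_⟩
  · intro x
    by_cases hx : D.1 x = 1
    · exact ⟨1, (hg1 x hx).trans (h1 x)⟩
    · exact ⟨a x, hg2 x hx⟩
  · intro x
    by_cases hx : D.1 x = 1
    · exact ⟨1, (hh1 x hx).trans (h1 x)⟩
    · exact ⟨b x, hh2 x hx⟩
  · apply Subtype.ext
    funext x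
    change D.1 x = g x * (h x)⁻¹
    by_cases hx : D.1 x = 1
    · rw [hg1 x hx, hh1 x hx, hx, inv_one]
      exact (mul_one (1 : Germ C x)).symm
    · rw [hg2 x hx, hh2 x hx, ← div_eq_mul_inv]
      exact hab x
  · intro x hx hx'
    exact hx (hg1 x hx')
  · intro x hx hx'
    exact hx (hh1 x hx')

end K319.AbsCurve
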