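import Groth.Agent.Curves.K319.Setup

/-!
# Base points of invertible modules on regular proper curves over an algebraically closed field

`NB L P`: some section of `L` generates it at `P`.  `finrank_ideal`:
`h^0(L ⊗ I_P) + [P is not a base point] = h^0(L)`.
-/

set_option autoImplicit false
universe u

open CategoryTheory CategoryTheory.Limits AlgebraicGeometry TopologicalSpace IsLocalRing

namespace K319.Base

open Groth.Agent Groth.Agent.CurvesC.Gen Groth.Agent.CurvesB K319.Setup

variable {X : Scheme.{u}}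

/-- `P` is not a base point of `L`. -/
def NB (L : X.Modules) (P : X) : Prop := ∃ s : Coh.structureModule X ⟶ L, P ∈ CohB1.genLocus L s

variable (P : X) (hP : IsClosed ({P} : Set X))

/-- A function vanishing at `P` is zero on the reduced subscheme `P`. -/
theorem subschemeι_app_eq_zero_of_notMem {U : X.Opens} (a : Γ(X, U)) (ha : P ∉ X.basicOpen a) :
    (I X P hP).subschemeι.app U a = 0 := by
  have : IsReduced (I X P hP).subscheme := Ega1.ReducedSub.isReduced_subscheme_vanishingIdeal _
  rw [← basicOpen_eq_bot_iff, ← Scheme.preimage_basicOpen, eq_bot_iff]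
  intro z hz
  exfalso
  have h1 : (I X P hP).subschemeι z ∈ (I X P hP).support := by
    have : (I X P hP).subschemeι z ∈ Set.range (I X P hP).subschemeι := ⟨z, rfl⟩
    rwa [Scheme.IdealSheafData.range_subschemeι] at this
  rw [mem_support_I] at h1
  apply ha
  rw [← h1]
  exact hz

theorem pr_eq_zero_iff {L : X.Modules} (hL : PicF.IsInvertible L) (l : Γ(L, ⊤)) :
    (SepLift.pr (I X P hP) L).app ⊤ l = 0 ↔ P ∉ CohB1.genLocus L (ofSec l) := by
  obtain ⟨U, hPU, e, he⟩ := exists_isGen hL P
  obtain ⟨a, ha⟩ := he.exists_eq (sec (ofSec l) U)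
  have hb := genLocus_inf_eq_basicOpen he (ofSec l) ha
  have hl : L.presheaf.map (homOfLE (le_top : U ≤ ⊤)).op l = a • e := by
    rw [ha, sec_ofSec]
  constructor
  · intro h hcon
    have h1 : (SepLift.pr (I X P hP) L).app U (a • e) = 0 := by
      rw [← hl]
      have h2 := Fdesc.LocGen.app_res (SepLift.pr (I X P hP) L) (le_top : U ≤ ⊤) l
      refine h2.trans ?_
      rw [h]
      exact map_zero _
    have h2 := SepLift.exists_coeff_of_pr_eq_zero (I X P hP) hL (e := e) he (a • e) h1 a rfl
    have h3 := SepPoints.notMem_basicOpen_of_app_eq_zero (I X P hP) (x := P)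
      ((mem_support_I P hP).mpr rfl) U a h2
    apply h3
    rw [← hb]
    exact ⟨hcon, hPU⟩
  · intro h
    have h3 : P ∉ X.basicOpen a := by
      intro hcon
      rw [← hb] at hcon
      exact h hcon.1
    refine Ega2.Tens.eq_of_locally_eq _ _ _ fun x _ => ?_
    by_cases hx : x = P
    · subst hx
      refine ⟨U, homOfLE le_top, hPU, ?_⟩
      change Fdesc.LocGen.res _ le_top ((SepLift.pr (I X x hP) L).app ⊤ l) = Fdesc.LocGen.res _ le_top 0
      rw [← Fdesc.LocGen.app_res]
      change (SepLift.pr (I X x hP) L).app U (L.presheaf.map (homOfLE (le_top : U ≤ ⊤)).op l) = _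
      rw [hl, SepLift.pr_eq_zero_of_coeff (I X x hP) e a (subschemeι_app_eq_zero_of_notMem x hP a h3)]
      exact (map_zero _).symm
    · let V : X.Opens := ⟨({P} : Set X)ᶜ, hP.isOpen_compl⟩
      refine ⟨V, homOfLE le_top, hx, ?_⟩
      change Fdesc.LocGen.res _ le_top ((SepLift.pr (I X P hP) L).app ⊤ l) = Fdesc.LocGen.res _ le_top 0
      rw [← Fdesc.LocGen.app_res, SepLift.pr_eq_zero_of_disjoint (I X P hP) hL (U := V) ?_]
      · exact (map_zero _).symm
      · intro y hy hys
        rw [mem_support_I] at hys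
        exact hy hys

/-- Off the support, every section of `L` comes from `I ⊗ L`; in particular `I ⊗ L ⟶ L` is not zero. -/
theorem mu_ne_zero {L : X.Modules} (hL : PicF.IsInvertible L) (Z : X.IdealSheafData) (x : X)
    (hx : x ∉ Z.support) : SepLift.mu Z L ≠ 0 := by
  intro h0
  obtain ⟨U, hxU, e, he⟩ := exists_isGen hL x
  let V : X.Opens := U ⊓ ⟨(Z.support : Set X)ᶜ, Z.support.isClosed.isOpen_compl⟩
  have hxV : x ∈ V := ⟨hxU, hx⟩
  let e' := L.presheaf.map (homOfLE (inf_le_left : V ≤ U)).op e
  have he' : IsGen L V e' := he.mono _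
  obtain ⟨t, ht⟩ := SepLift.exists_mu_of_pr_eq_zero Z hL e'
    (SepLift.pr_eq_zero_of_disjoint Z hL (U := V) (fun y hy hys => hy.2 hys) e')
  have h1 : e' = 0 := by
    rw [← ht, h0]
    rfl
  have h2 : (1 : Γ(X, V)) = 0 := he'.injective (by rw [h1, smul_zero, smul_zero])
  have : Nonempty V := ⟨⟨x, hxV⟩⟩
  have h3 : Nontrivial Γ(X, V) := inferInstance
  exact one_ne_zero h2

section Curve

variable (k : Type u) [Field k] [IsAlgClosed k] [X.Over (Spec (CommRingCat.of k))]
  [IsIntegral X] [IsProper (X ↘ (Spec (CommRingCat.of k)))] (hdim : topologicalKrullDim X = 1)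

open VarietyA.EulerLES in
omit [IsAlgClosed k] [IsIntegral X] [IsProper (X ↘ (Spec (CommRingCat.of k)))] in
/-- The sections of `I_P ⊗ L` are the sections of `L` vanishing at `P`. -/
theorem mem_range_mu {L : X.Modules} (hL : PicF.IsInvertible L) (x : Coh.HH X L 0) :
    x ∈ LinearMap.range (mapA k (SepLift.mu (I X P hP) L) 0) ↔
      P ∉ CohB1.genLocus L (ofSec (HZero.equivAdd L x)) := by
  rw [← pr_eq_zero_iff P hP hL]
  have hex := exactA₂ k (SepLift.sc (I X P hP) L) (SepLift.sc_shortExact (I X P hP) hL) 0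
  have h1 : x ∈ LinearMap.range (mapA k (SepLift.mu (I X P hP) L) 0) ↔
      mapA k (SepLift.pr (I X P hP) L) 0 x = 0 := (hex x).symm
  rw [h1]
  have h2 := HZero.equivAdd_map (SepLift.pr (I X P hP) L) x
  constructor
  · intro h
    refine h2.symm.trans ?_
    have h3 : Sheaf.H.map ((SheafOfModules.toSheaf X.ringCatSheaf).map (SepLift.pr (I X P hP) L)) 0 x = 0 := h
    rw [h3, map_zero]
  · intro h
    apply (HZero.equivAdd _).injective
    rw [map_zero]
    exact h2.trans h

open VarietyA.EulerLES in
include hdim in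
theorem finrank_ideal' {L : X.Modules} (hL : PicF.IsInvertible L) :
    (NB L P → Module.finrank k (Coh.HH X (CohB1.tensorMod (ClSub.idealMod (I X P hP)) L) 0) + 1 =
      Module.finrank k (Coh.HH X L 0)) ∧
    (¬ NB L P → Module.finrank k (Coh.HH X (CohB1.tensorMod (ClSub.idealMod (I X P hP)) L) 0) =
      Module.finrank k (Coh.HH X L 0)) := by
  have := CurveRR.isNoetherian_of_proper k X
  let Z := I X P hP
  have hcohI : Coh.IsCoh (CohB1.tensorMod (ClSub.idealMod Z) L) :=
    Fga.TwistCoh.isCoh_tensor (VarietyB.DegCartier.isCoh_idealMod Z) hL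
  have hcohQ : Coh.IsCoh (CohB1.tensorMod (ClSub.quotMod Z) L) :=
    Fga.TwistCoh.isCoh_tensor (VarietyB.DegCartier.isCoh_quotMod Z) hL
  have f0 : ∀ n, Module.Finite k (Coh.HH X L n) := VarietyA.CurveFin.finite_HH k X hL
  have f1 : ∀ n, Module.Finite k (Coh.HH X (CohB1.tensorMod (ClSub.idealMod Z) L) n) :=
    fun n => S0002.result k X _ hcohI n
  have f2 : ∀ n, Module.Finite k (Coh.HH X (CohB1.tensorMod (ClSub.quotMod Z) L) n) :=
    fun n => S0002.result k X _ hcohQ n
  have e1 : Module.finrank k (Coh.HH X (CohB1.tensorMod (ClSub.idealMod Z) L) 0) +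
        1 + Module.finrank k (Coh.HH X L 1) = Module.finrank k (Coh.HH X L 0) +
        Module.finrank k (Coh.HH X (CohB1.tensorMod (ClSub.idealMod Z) L) 1) := by
    rw [← TwistIdeal.finrank_twist k hL Z (dim_support_I P hP), finrank_quotMod_I k X P hP]
  let m := mapA k (SepLift.mu Z L) 0
  have hmono := SepLift.mono_mu Z hL
  have hinj : Function.Injective m := injectiveA₀ k (SepLift.sc Z L) (SepLift.sc_shortExact Z hL)
  have hle : Module.finrank k (Coh.HH X (CohB1.tensorMod (ClSub.idealMod Z) L) 0) ≤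
      Module.finrank k (Coh.HH X L 0) := LinearMap.finrank_le_finrank_of_injective hinj
  have hmu : SepLift.mu Z L ≠ 0 := by
    refine mu_ne_zero hL Z (genericPoint X) ?_
    rw [mem_support_I]
    exact (ne_genericPoint hdim hP).symm
  have hsurj : Function.Surjective (mapA k (SepLift.mu Z L) 1) :=
    CurveRR.hmap_surjective hdim.le (InvEmb.locEmb_of_isInvertible hL) (SepLift.mu Z L) hmu 0
  have hle1 : Module.finrank k (Coh.HH X L 1) ≤
      Module.finrank k (Coh.HH X (CohB1.tensorMod (ClSub.idealMod Z) L) 1) :=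
    LinearMap.finrank_le_finrank_of_surjective hsurj
  have hrange : ∀ x : Coh.HH X L 0, x ∈ LinearMap.range m ↔
      P ∉ CohB1.genLocus L (ofSec (HZero.equivAdd L x)) := mem_range_mu P hP k hL
  constructor
  · rintro ⟨s, hs⟩
    have hne : LinearMap.range m ≠ ⊤ := by
      intro htop
      have h1 := (hrange ((HZero.equivAdd L).symm (sec s ⊤))).mp (by rw [htop]; trivial)
      rw [AddEquiv.apply_symm_apply, ofSec_sec] at h1
      exact h1 hs
    have hlt : Module.finrank k (LinearMap.range m) < Module.finrank k (Coh.HH X L 0) :=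
      Submodule.finrank_lt hne
    rw [LinearMap.finrank_range_of_inj hinj] at hlt
    change Module.finrank k (Coh.HH X (CohB1.tensorMod (ClSub.idealMod Z) L) 0) + 1 = _
    omega
  · intro hn
    have htop : LinearMap.range m = ⊤ := by
      rw [eq_top_iff]
      intro x _
      rw [hrange]
      intro hcon
      exact hn ⟨_, hcon⟩
    rw [← LinearMap.finrank_range_of_inj hinj, htop, finrank_top]

end Curve

end K319.Base
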