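import Mathlib.Algebra.Group.Basic
import Mathlib.Data.Multiset.AddSub
import Mathlib.Data.Set.Finite.Lattice
import Mathlib.Algebra.BigOperators.Group.Multiset.Basic
import Mathlib.Tactic.Abel
import Mathlib.Tactic.Linarith
import Mathlib.Tactic.Ring

/-!
# Numerical theory of divisor classes on a curve

`CD A pts`: an additive group `A` of classes, points `pts` with classes `p x` of degree one, `h a = dim H⁰`, base
points, Riemann-Roch with duality. Consequences: Hopf's inequality, Clifford's theorem and its equality case.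
-/

set_option autoImplicit false

namespace K319

/-- numerical data of a curve -/
structure CD (A : Type*) [AddCommGroup A] (pts : Type*) where
  g : ℕ
  K : A
  deg : A →+ ℤ
  h : A → ℕ
  p : pts → A
  nb : pts → A → Prop
  deg_p : ∀ x, deg (p x) = 1
  h_of_nb : ∀ x a, nb x a → h (a - p x) + 1 = h a
  h_of_not_nb : ∀ x a, ¬ nb x a → h (a - p x) = h a
  nb_add : ∀ x a b, nb x a → nb x b → nb x (a + b)
  nb_p : ∀ x y, x ≠ y → nb x (p y)
  h_zero : h 0 = 1
  eq_zero : ∀ a, deg a = 0 → h a ≠ 0 → a = 0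
  h_neg : ∀ a, deg a < 0 → h a = 0
  rr : ∀ a, (h a : ℤ) = h (K - a) + deg a + 1 - g
  finite_not_nb : ∀ a, h a ≠ 0 → {x | ¬ nb x a}.Finite
  infinite : Infinite pts
  exists_pt : ∀ a, h a ≠ 0 → 0 < deg a → ∃ x, h (a - p x) ≠ 0

namespace CD

variable {A : Type*} [AddCommGroup A] {pts : Type*} (C : CD A pts)

theorem h_sub_le (a : A) (x : pts) : C.h (a - C.p x) ≤ C.h a := by
  by_cases hn : C.nb x a
  · have := C.h_of_nb x a hn; omega
  · have := C.h_of_not_nb x a hn; omega

theorem h_le_succ (a : A) (x : pts) : C.h a ≤ C.h (a - C.p x) + 1 := by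
  by_cases hn : C.nb x a
  · have := C.h_of_nb x a hn; omega
  · have := C.h_of_not_nb x a hn; omega

theorem h_le_add_p (a : A) (x : pts) : C.h a ≤ C.h (a + C.p x) := by
  have := C.h_sub_le (a + C.p x) x
  rwa [add_sub_cancel_right] at this

theorem nb_iff (x : pts) (a : A) : C.nb x a ↔ C.h (a - C.p x) + 1 = C.h a := by
  constructor
  · exact C.h_of_nb x a
  · intro h
    by_contra hn
    have := C.h_of_not_nb x a hn
    omega

theorem deg_nonneg {a : A} (ha : C.h a ≠ 0) : 0 ≤ C.deg a := by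
  by_contra hcon
  exact ha (C.h_neg a (by omega))

theorem exists_good (a b : A) (ha : C.h a ≠ 0) (hb : C.h b ≠ 0) : ∃ x, C.nb x a ∧ C.nb x b := by
  have := C.infinite
  obtain ⟨x, hx⟩ := (((C.finite_not_nb a ha).union (C.finite_not_nb b hb))).infinite_compl.nonempty
  refine ⟨x, ?_, ?_⟩
  · by_contra hcon; exact hx (Or.inl hcon)
  · by_contra hcon; exact hx (Or.inr hcon)

theorem mono_aux (n : ℕ) : ∀ a b : A, C.deg b = n → C.h b ≠ 0 → C.h a ≤ C.h (a + b) := by
  induction n with
  | zero =>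
    intro a b hd hb
    rw [C.eq_zero b (by simpa using hd) hb, add_zero]
  | succ n ih =>
    intro a b hd hb
    obtain ⟨x, hx⟩ := C.exists_pt b hb (by rw [hd]; positivity)
    have h1 := ih a (b - C.p x) (by rw [map_sub, hd, C.deg_p]; push_cast; ring) hx
    have h2 := C.h_sub_le (a + b) x
    rw [add_sub_assoc] at h2
    exact h1.trans h2

/-- Adding an effective class does not decrease `h`. -/
theorem mono (a b : A) (hb : C.h b ≠ 0) : C.h a ≤ C.h (a + b) :=
  C.mono_aux (C.deg b).toNat a b (Int.toNat_of_nonneg (C.deg_nonneg hb)).symm hb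

theorem add_ne_zero (a b : A) (ha : C.h a ≠ 0) (hb : C.h b ≠ 0) : C.h (a + b) ≠ 0 := by
  have := C.mono a b hb
  omega

theorem hopf_aux (n : ℕ) : ∀ a b : A, C.h a = n + 1 → C.h b ≠ 0 → C.h a + C.h b ≤ C.h (a + b) + 1 := by
  induction n with
  | zero =>
    intro a b ha hb
    have := C.mono b a (by omega)
    rw [add_comm b a] at this
    omega
  | succ n ih =>
    intro a b ha hb
    obtain ⟨x, hx1, hx2⟩ := C.exists_good a (a + b) (by omega) (C.add_ne_zero a b (by omega) hb)
    have h1 := C.h_of_nb x a hx1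
    have h2 := C.h_of_nb x (a + b) hx2
    have h3 := ih (a - C.p x) b (by omega) hb
    rw [sub_add_eq_add_sub] at h3
    omega

/-- Hopf's inequality. -/
theorem hopf (a b : A) (ha : C.h a ≠ 0) (hb : C.h b ≠ 0) : C.h a + C.h b ≤ C.h (a + b) + 1 := by
  obtain ⟨n, hn⟩ := Nat.exists_eq_succ_of_ne_zero ha
  exact C.hopf_aux n a b hn hb

theorem h_K : C.h C.K = C.g := by
  have h1 := C.rr 0
  rw [sub_zero, map_zero, C.h_zero] at h1
  omega

theorem deg_K : C.deg C.K = 2 * (C.g : ℤ) - 2 := by
  have h1 := C.rr C.K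
  rw [sub_self, C.h_zero, C.h_K] at h1
  push_cast at h1
  linarith

theorem deg_sub_p (a : A) (x : pts) : C.deg (a - C.p x) = C.deg a - 1 := by
  rw [map_sub, C.deg_p]

theorem h_nsmul (a : A) (ha : C.h a ≠ 0) (n : ℕ) : n * (C.h a - 1) + 1 ≤ C.h (n • a) := by
  induction n with
  | zero => rw [zero_nsmul, C.h_zero]; omega
  | succ n ih =>
    have h1 := C.hopf (n • a) a (by omega) ha
    rw [succ_nsmul]
    have h2 : (n + 1) * (C.h a - 1) = n * (C.h a - 1) + (C.h a - 1) := by ring
    rw [h2]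
    omega

theorem nsmul_ne_zero (a : A) (ha : C.h a ≠ 0) (n : ℕ) : C.h (n • a) ≠ 0 := by
  have := C.h_nsmul a ha n
  omega

/-- `h (p x) = 1` in positive genus. -/
theorem h_p (hg : 1 ≤ C.g) (x : pts) : C.h (C.p x) = 1 := by
  have h0 : C.h (C.p x) ≠ 0 := by
    have := C.h_le_add_p 0 x
    rw [zero_add, C.h_zero] at this
    omega
  by_contra hcon
  have h2 : 2 ≤ C.h (C.p x) := by omega
  have h3 := C.h_nsmul (C.p x) h0 (2 * C.g)
  have h4 := C.rr ((2 * C.g) • C.p x)
  have h5 : C.h (C.K - (2 * C.g) • C.p x) = 0 := by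
    apply C.h_neg
    rw [map_sub, map_nsmul, C.deg_p, C.deg_K, nsmul_eq_mul]
    push_cast
    linarith
  rw [h5, map_nsmul, C.deg_p, nsmul_eq_mul] at h4
  push_cast at h4
  have h6 : 2 * C.g * 1 ≤ 2 * C.g * (C.h (C.p x) - 1) := Nat.mul_le_mul_left _ (by omega)
  omega

/-- The canonical class has no base points in positive genus. -/
theorem nb_K (hg : 1 ≤ C.g) (x : pts) : C.nb x C.K := by
  rw [C.nb_iff, C.h_K]
  have h1 := C.rr (C.p x)
  rw [C.h_p hg, C.deg_p] at h1
  push_cast at h1
  omega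

/-- Clifford's inequality. -/
theorem clifford (a : A) (ha : C.h a ≠ 0) (ha' : C.h (C.K - a) ≠ 0) :
    C.h a + C.h (C.K - a) ≤ C.g + 1 ∧ 2 * (C.h a : ℤ) ≤ C.deg a + 2 := by
  have h1 := C.hopf a (C.K - a) ha ha'
  rw [add_sub_cancel, C.h_K] at h1
  have h2 := C.rr a
  refine ⟨h1, ?_⟩
  have h3 : (C.h a : ℤ) + C.h (C.K - a) ≤ C.g + 1 := by exact_mod_cast h1
  linarith

/-- The class of a multiset of points. -/
def cl (m : Multiset pts) : A := (m.map C.p).sum

@[simp] theorem cl_zero : C.cl 0 = 0 := by simp [cl]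

@[simp] theorem cl_cons (x : pts) (m : Multiset pts) : C.cl (x ::ₘ m) = C.p x + C.cl m := by simp [cl]

@[simp] theorem cl_add (m n : Multiset pts) : C.cl (m + n) = C.cl m + C.cl n := by simp [cl]

theorem deg_cl (m : Multiset pts) : C.deg (C.cl m) = m.card := by
  induction m using Multiset.induction_on with
  | empty => simp
  | cons x m ih => rw [cl_cons, map_add, C.deg_p, ih, Multiset.card_cons]; push_cast; ring

theorem h_cl_ne_zero (m : Multiset pts) : C.h (C.cl m) ≠ 0 := by
  induction m using Multiset.induction_on with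
  | empty => rw [cl_zero, C.h_zero]; omega
  | cons x m ih =>
    have := C.h_le_add_p (C.cl m) x
    rw [cl_cons, add_comm]
    omega

theorem exists_cl_aux (n : ℕ) : ∀ a : A, C.deg a = n → C.h a ≠ 0 → ∃ m : Multiset pts, C.cl m = a := by
  induction n with
  | zero =>
    intro a hd ha
    exact ⟨0, by rw [cl_zero, C.eq_zero a (by simpa using hd) ha]⟩
  | succ n ih =>
    intro a hd ha
    obtain ⟨x, hx⟩ := C.exists_pt a ha (by rw [hd]; positivity)
    obtain ⟨m, hm⟩ := ih (a - C.p x) (by rw [map_sub, hd, C.deg_p]; push_cast; ring) hx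
    exact ⟨x ::ₘ m, by rw [cl_cons, hm]; abel⟩

/-- Effective classes are sums of points. -/
theorem exists_cl (a : A) (ha : C.h a ≠ 0) : ∃ m : Multiset pts, C.cl m = a :=
  C.exists_cl_aux (C.deg a).toNat a (Int.toNat_of_nonneg (C.deg_nonneg ha)).symm ha

theorem koszul_pp (F : A) (x y : pts) (hxy : x ≠ y) :
    C.h (F + C.p x) + C.h (F + C.p y) ≤ C.h F + C.h (F + C.p x + C.p y) := by
  by_cases hn : C.nb x (F + C.p x)
  · have h1 := C.h_of_nb x _ hn
    have h2 := C.h_of_nb x _ (C.nb_add x _ _ hn (C.nb_p x y hxy))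
    rw [add_sub_cancel_right] at h1
    have h3 : F + C.p x + C.p y - C.p x = F + C.p y := by abel
    rw [h3] at h2
    omega
  · have h1 := C.h_of_not_nb x _ hn
    rw [add_sub_cancel_right] at h1
    have h2 := C.h_le_add_p (F + C.p y) x
    have h3 : F + C.p y + C.p x = F + C.p x + C.p y := by abel
    rw [h3] at h2
    omega

theorem koszul_pm (F : A) (x : pts) (m : Multiset pts) (hx : x ∉ m) :
    C.h (F + C.p x) + C.h (F + C.cl m) ≤ C.h F + C.h (F + C.p x + C.cl m) := by
  induction m using Multiset.induction_on with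
  | empty => simp only [cl_zero, add_zero]; omega
  | cons y m ih =>
    rw [Multiset.mem_cons, not_or] at hx
    have h1 := ih hx.2
    have h2 := C.koszul_pp (F + C.cl m) x y hx.1
    have e1 : F + C.cl m + C.p x = F + C.p x + C.cl m := by abel
    have e2 : F + C.cl m + C.p y = F + C.cl (y ::ₘ m) := by rw [cl_cons]; abel
    have e3 : F + C.cl m + C.p x + C.p y = F + C.p x + C.cl (y ::ₘ m) := by rw [cl_cons]; abel
    rw [e3, e1, e2] at h2
    omega

/-- The Koszul inequality for two effective divisors without common points. -/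
theorem koszul (F : A) (m n : Multiset pts) (hmn : ∀ x ∈ m, x ∉ n) :
    C.h (F + C.cl m) + C.h (F + C.cl n) ≤ C.h F + C.h (F + C.cl m + C.cl n) := by
  induction m using Multiset.induction_on with
  | empty => simp
  | cons x m ih =>
    have h1 := ih fun y hy => hmn y (Multiset.mem_cons_of_mem hy)
    have h2 := C.koszul_pm (F + C.cl m) x n (hmn x (Multiset.mem_cons_self x m))
    have e1 : F + C.cl m + C.p x = F + C.cl (x ::ₘ m) := by rw [cl_cons]; abel
    rw [e1] at h2
    omega

end CD

end K319
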