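import Groth.Agent.Curves.K319.CD2

/-!
# Numerical theory of divisor classes: pencils and Clifford index one
-/

set_option autoImplicit false

namespace K319.CD

variable {A : Type*} [AddCommGroup A] {pts : Type*} (C : CD A pts)

/-- a base point free pencil contains divisors avoiding a given finite set -/
theorem exists_disjoint (t : A) (ht : C.h t = 2) (hb : ∀ x, C.nb x t) (S : Set pts) (hS : S.Finite) :
    ∃ n : Multiset pts, C.cl n = t ∧ ∀ x ∈ S, x ∉ n := by
  have h1 : ∀ x, C.h (t - C.p x) = 1 := fun x => by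
    have := C.h_of_nb x t (hb x)
    omega
  have hfin : (S ∪ ⋃ x ∈ S, {y | ¬ C.nb y (t - C.p x)}).Finite := by
    refine hS.union (hS.biUnion fun x _ => C.finite_not_nb _ ?_)
    rw [h1]
    norm_num
  have := C.infinite
  obtain ⟨y, hy⟩ := hfin.exists_notMem
  obtain ⟨n', hn'⟩ := C.exists_cl (t - C.p y) (by rw [h1]; norm_num)
  refine ⟨y ::ₘ n', by rw [cl_cons, hn', add_sub_cancel], fun x hx hxn => ?_⟩
  rw [Multiset.mem_cons] at hxn
  rcases hxn with rfl | hxn
  · exact hy (Or.inl hx)
  · obtain ⟨n'', rfl⟩ := Multiset.exists_cons_of_mem hxn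
    have h2 : C.nb y (t - C.p x) := by
      by_contra hcon
      exact hy (Or.inr (Set.mem_biUnion hx hcon))
    have h3 := C.h_of_nb y _ h2
    rw [h1] at h3
    have h4 := C.h_cl_ne_zero n''
    rw [cl_cons] at hn'
    have h5 : C.cl n'' = t - C.p x - C.p y := by
      rw [eq_sub_iff_add_eq'] 
      rw [eq_sub_iff_add_eq'] at *
      rw [← hn']
      abel
    rw [h5] at h4
    omega

/-- the base point free pencil trick -/
theorem pencil (t : A) (ht : C.h t = 2) (hb : ∀ x, C.nb x t) (a : A) : 2 * C.h a ≤ C.h (a - t) + C.h (a + t) := by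
  obtain ⟨m, hm⟩ := C.exists_cl t (by omega)
  obtain ⟨n, hn, hd⟩ := C.exists_disjoint t ht hb {x | x ∈ m} (by
    classical
    refine Set.Finite.subset m.toFinset.finite_toSet fun x hx => ?_
    simpa using hx)
  have h1 := C.koszul (a - t) m n hd
  rw [hm, hn, sub_add_cancel] at h1
  omega

section NonHyp

variable (hnh : ∀ c, C.deg c = 2 → C.h c ≤ 1)
include hnh

/-- on a nonhyperelliptic curve the Clifford index is at least one -/
theorem cliff_one (a : A) (ha : 2 ≤ C.h a) (hs : C.h (C.K - a) ≠ 0) (hK : a ≠ C.K) :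
    2 * (C.h a : ℤ) ≤ C.deg a + 1 := by
  have h1 := (C.clifford a (by omega) hs).2
  by_contra hcon
  obtain ⟨c, hc1, hc2, -⟩ := C.clifford_eq a (by omega) hs (by rintro rfl; rw [C.h_zero] at ha; omega) hK (by omega)
  have := hnh c hc1
  omega

variable (t : A) (ht : C.deg t = 3) (ht2 : 2 ≤ C.h t)
include ht ht2

theorem h_trigonal : C.h t = 2 := by
  by_contra hcon
  obtain ⟨x, -⟩ : ∃ x : pts, True := by
    have := C.infinite
    exact ⟨Classical.arbitrary pts, trivial⟩
  have h1 := hnh (t - C.p x) (by rw [C.deg_sub_p, ht]; norm_num)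
  have h2 := C.h_le_succ t x
  omega

theorem nb_trigonal (x : pts) : C.nb x t := by
  by_contra hcon
  have h1 := hnh (t - C.p x) (by rw [C.deg_sub_p, ht]; norm_num)
  have h2 := C.h_of_not_nb x t hcon
  omega

/-- on a nonhyperelliptic trigonal curve no class of Clifford index one is in the middle range -/
theorem trigonal_gap (a : A) (h3 : 3 ≤ C.h a) (hg : C.h a + 3 ≤ C.g) (hd : C.deg a = 2 * C.h a - 1) : False := by
  have htt := C.h_trigonal hnh t ht ht2
  have h1 := C.rr a
  have hp := C.pencil t htt (C.nb_trigonal hnh t ht ht2) a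
  have hdm : C.deg (a - t) = C.deg a - 3 := by rw [map_sub, ht]
  have hdp : C.deg (a + t) = C.deg a + 3 := by rw [map_add, ht]
  have hK := C.deg_K
  have h2 : C.h (a - t) + 2 ≤ C.h a := by
    by_contra hcon
    have h4 : C.h (C.K - (a - t)) ≠ 0 := by
      have h5 := C.mono (C.K - a) t (by omega)
      have h6 : C.K - a + t = C.K - (a - t) := by abel
      rw [h6] at h5
      omega
    have h5 := C.cliff_one hnh (a - t) (by omega) h4 (by
      intro h0
      rw [h0] at hdm
      omega)
    omega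
  have h4 := C.rr (a + t)
  have h5 : 2 ≤ C.h (C.K - (a + t)) := by omega
  have h6 := C.cliff_one hnh (a + t) (by omega) (by omega) (by
    intro h0
    rw [h0, sub_self, C.h_zero] at h5
    omega)
  omega

/-- linear stability of generic projections of a trigonal canonical curve -/
theorem lin_stable (hg : 5 ≤ C.g) (a : A) (m : ℕ) (hm : 2 ≤ m) (hmg : m + 1 < C.g) (hma : m ≤ C.h a)
    (hs : C.h (C.K - a) ≠ 0)
    (hexc : ¬ (C.deg a + 5 = 2 * C.g ∧ C.h a + 2 = C.g ∧ m + 2 = C.g)) :
    (2 * (C.g : ℤ) - 2) * ((m : ℤ) - 1) < C.deg a * ((C.g : ℤ) - 2) := by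
  by_cases hK : a = C.K
  · rw [hK, C.deg_K]
    have h1 : (0 : ℤ) < 2 * (C.g : ℤ) - 2 := by omega
    have h2 : (m : ℤ) - 1 < (C.g : ℤ) - 2 := by omega
    exact mul_lt_mul_of_pos_left h2 h1
  have h1 := C.cliff_one hnh a (by omega) hs hK
  have key : 2 * (m : ℤ) ≤ C.deg a → (2 * (C.g : ℤ) - 2) * ((m : ℤ) - 1) < C.deg a * ((C.g : ℤ) - 2) := by
    intro h
    have h2 : (0 : ℤ) < (C.g : ℤ) - 2 := by omega
    have h3 : (m : ℤ) + 1 < C.g := by omega
    nlinarith
  by_cases hge : 2 * (m : ℤ) ≤ C.deg a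
  · exact key hge
  have hma' : C.h a = m := by omega
  have hd : C.deg a = 2 * (C.h a : ℤ) - 1 := by omega
  rcases Nat.lt_or_ge m 3 with h3 | h3
  · have hm2 : m = 2 := by omega
    subst hm2
    rw [hd, hma']
    have : (5 : ℤ) ≤ C.g := by omega
    push_cast
    linarith
  · rcases Nat.lt_or_ge C.g (m + 3) with h4 | h4
    · exact absurd ⟨by omega, by omega, by omega⟩ hexc
    · exact (C.trigonal_gap hnh t ht ht2 a (by omega) (by omega) hd).elim

end NonHyp

end K319.CD
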