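import Groth.Prelude.Def_LinSer
import Groth.Agent.CurvesB.HZero
import Mathlib.LinearAlgebra.LinearIndependent.Lemmas
import Mathlib.LinearAlgebra.Dimension.Constructions

/-!
# Linear series and the dimension of `H⁰`
-/

set_option autoImplicit false
universe u

open CategoryTheory CategoryTheory.Limits AlgebraicGeometry TopologicalSpace Opposite

namespace K319.LinS

open Groth.Agent Groth.Agent.CurvesB

variable (k : Type u) [Field k] {X : Scheme.{u}} [X.Over (Spec (CommRingCat.of k))]

/-- sections, seen in `Γ(L, ⊤)` -/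
def toΓ (L : X.Modules) (s : LinSer.Sect X L) : Γ(L, ⊤) := s

/-- sections, seen in `Sect X L` -/
def ofΓ (L : X.Modules) (s : Γ(L, ⊤)) : LinSer.Sect X L := s

/-- sections as elements of `H⁰` -/
noncomputable def toH (L : X.Modules) (s : LinSer.Sect X L) : Coh.HH X L 0 := (HZero.equivAdd L).symm (toΓ L s)

theorem equiv_sum (L : X.Modules) {n : ℕ} (s : Fin n → LinSer.Sect X L) (c : Fin n → k) :
    (HZero.equivAdd L (∑ i, c i • toH L (s i)) : Γ(L, ⊤)) =
      ((∑ i, (Coh.toGlobal (X ↘ Spec (CommRingCat.of k)) (c i)) • s i : LinSer.Sect X L) : Γ(L, ⊤)) := by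
  rw [map_sum]
  have h : ∀ i, (HZero.equivAdd L (c i • toH L (s i)) : Γ(L, ⊤)) =
      ((Coh.toGlobal (X ↘ Spec (CommRingCat.of k)) (c i)) • s i : LinSer.Sect X L) := by
    intro i
    refine (HZero.equivAdd_smul_over L (c i) (toH L (s i))).trans ?_
    refine (congrArg (fun t : Γ(L, ⊤) => (HZero.gl k X (c i)) • t)
      ((HZero.equivAdd L).apply_symm_apply (toΓ L (s i)))).trans ?_
    rfl
  exact Finset.sum_congr rfl fun i _ => h i

theorem linIndep_iff (L : X.Modules) {n : ℕ} (s : Fin n → LinSer.Sect X L) :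
    LinSer.LinIndep k X L s ↔ LinearIndependent k (fun i => toH L (s i)) := by
  rw [Fintype.linearIndependent_iff]
  constructor
  · intro h c hc i
    have h1 := equiv_sum k L s c
    rw [hc, map_zero] at h1
    have h2 := h c h1.symm
    exact congrFun h2 i
  · intro h c hc
    funext i
    apply h c _ i
    apply (HZero.equivAdd L).injective
    rw [map_zero]
    exact (equiv_sum k L s c).trans hc

theorem exists_isLinSer (N : X.Modules) (hN : PicF.IsInvertible N) (d r : ℕ) (hd : Curv2.deg k X N 1 = d)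
    [Module.Finite k (Coh.HH X N 0)] (h : r + 1 ≤ Module.finrank k (Coh.HH X N 0)) :
    ∃ s : Fin (r + 1) → LinSer.Sect X N, LinSer.IsLinSer k X N d r s := by
  obtain ⟨v, hv⟩ := exists_linearIndependent_of_le_finrank h
  refine ⟨fun i => ofΓ N (HZero.equivAdd N (v i)), hN, hd, ?_⟩
  rw [linIndep_iff]
  have h1 : (fun i => toH N (ofΓ N (HZero.equivAdd N (v i)))) = v := by
    funext i
    exact (HZero.equivAdd N).symm_apply_apply (v i)
  rw [h1]
  exact hv

theorem le_finrank {N : X.Modules} {d r : ℕ} {s : Fin (r + 1) → LinSer.Sect X N}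
    [Module.Finite k (Coh.HH X N 0)] (hs : LinSer.IsLinSer k X N d r s) :
    r + 1 ≤ Module.finrank k (Coh.HH X N 0) := by
  have h := ((linIndep_iff k N s).mp hs.2.2).fintype_card_le_finrank
  simpa using h

end K319.LinS
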