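import Groth.Agent.Curves.K319.PicCD
import Groth.Agent.Curves.K319.LinS

/-!
# Clifford's theorem and its equality case, for modules
-/

set_option autoImplicit false
universe u

open CategoryTheory CategoryTheory.Limits AlgebraicGeometry TopologicalSpace IsLocalRing

namespace K319.Cliff

open Groth.Agent Groth.Agent.Fdesc.LocGen K319.Setup K319.Base K319.PicCD
open Groth.Agent.Grpsch.PicGrp K532.CurvePic Groth.Agent.Dix.IdealModCartier

variable (k : Type u) [Field k] [IsAlgClosed k] (X : Scheme.{u}) [X.Over (Spec (CommRingCat.of k))]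
  [IsIntegral X] [IsProper (X ↘ (Spec (CommRingCat.of k)))]

theorem special (hX : Reg X) {L M : X.Modules} (hL : PicF.IsInvertible L) (hM : ClSub.IsInverseOf L M)
    (hsp : Nontrivial (Coh.HH X (CohB1.tensorMod (Omega.sheaf (X ↘ (Spec (CommRingCat.of k)))) M) 0)) :
    (cd k X hX).h ((cd k X hX).K - Additive.ofMul (mk L hL)) ≠ 0 := by
  have hC := hX.isCurve (k := k)
  have hΩ := isInvertible_omega hC
  obtain ⟨-, hMi⟩ := isInvertible_of_isInverseOf hM
  have hLM : mk M hMi = (mk L hL)⁻¹ := by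
    rw [eq_inv_iff_mul_eq_one, mul_comm, mk_mul_mk, mk_eq_one_iff]
    exact hM
  change h k X 0 (om hC / mk L hL) ≠ 0
  rw [div_eq_mul_inv, ← hLM]
  exact ((nontrivial_iff hC (isInvertible_tensorMod hΩ hMi) 0).mp hsp).ne'

theorem exists_g12 (hX : Reg X) {L M : X.Modules} (hL : PicF.IsInvertible L) (hM : ClSub.IsInverseOf L M)
    (hs : Nontrivial (Coh.HH X L 0))
    (hsp : Nontrivial (Coh.HH X (CohB1.tensorMod (Omega.sheaf (X ↘ (Spec (CommRingCat.of k)))) M) 0))
    (h0 : IsEmpty (L ≅ Coh.structureModule X)) (hK : IsEmpty (L ≅ (Omega.sheaf (X ↘ (Spec (CommRingCat.of k))))))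
    (heq : 2 * (Module.finrank k (Coh.HH X L 0) : ℤ) = Curv2.deg k X L 1 + 2) :
    ∃ (N : X.Modules) (s : Fin 2 → LinSer.Sect X N), LinSer.IsLinSer k X N 2 1 s ∧
      Nonempty (L ≅ CohB1.tensorPow N (Module.finrank k (Coh.HH X L 0) - 1)) := by
  have hC := hX.isCurve (k := k)
  have hΩ := isInvertible_omega hC
  have h1 : (cd k X hX).h (Additive.ofMul (mk L hL)) ≠ 0 := ((nontrivial_iff hC hL 0).mp hs).ne'
  have h2 := special k X hX hL hM hsp
  have h3 : Additive.ofMul (mk L hL) ≠ 0 := by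
    intro h
    have h' : mk L hL = 1 := h
    exact h0.false ((mk_eq_one_iff hL).mp h').some
  have h4 : Additive.ofMul (mk L hL) ≠ (cd k X hX).K := by
    intro h
    have h' : mk L hL = mk _ hΩ := h
    exact hK.false ((mk_eq_iff hL hΩ).mp h').some
  have h5 : 2 * ((cd k X hX).h (Additive.ofMul (mk L hL)) : ℤ) = (cd k X hX).deg (Additive.ofMul (mk L hL)) + 2 := by
    change 2 * (Module.finrank k (Coh.HH X L 0) : ℤ) = deg k X (mk L hL) + 2
    rw [deg_mk k X hX.dim hL]
    exact heq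
  obtain ⟨c, hc1, hc2, hc3⟩ := (cd k X hX).clifford_eq _ h1 h2 h3 h4 h5
  obtain ⟨N, hN, hcN⟩ := exists_mk c.toMul
  have hfin := finite_HH hC hN 0
  have hdN : Curv2.deg k X N 1 = (2 : ℕ) := by
    rw [← deg_mk k X hX.dim hN, ← hcN]
    exact hc1
  have hhN : 1 + 1 ≤ Module.finrank k (Coh.HH X N 0) := by
    rw [← h_mk k X 0 hN, ← hcN]
    exact hc2.ge
  obtain ⟨s, hs⟩ := K319.LinS.exists_isLinSer k N hN 2 1 hdN hhN
  refine ⟨N, s, hs, ?_⟩
  rw [← mk_eq_iff hL (isInvertible_tensorPow hN _), mk_tensorPow hN, ← hcN]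
  exact hc3

end K319.Cliff
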