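import Groth.Agent.Curves.K319.NBase
import Groth.Agent.Ega1.GlobGenPt
import Groth.Agent.Ega2.GlobGenCrit

/-!
# Global generation and base points
-/

set_option autoImplicit false
universe u

open CategoryTheory CategoryTheory.Limits AlgebraicGeometry TopologicalSpace IsLocalRing

namespace K319.Base

open Groth.Agent Groth.Agent.Fdesc.LocGen K319.Setup

variable {X : Scheme.{u}}

/-- An invertible module without base points is globally generated. -/
theorem isGloballyGenerated_of_NB [CompactSpace X] {L : X.Modules} (hL : PicF.IsInvertible L)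
    (h : ∀ P : X, IsClosed ({P} : Set X) → NB L P) : Curv2.IsGloballyGenerated L := by
  have h1 : ∀ x : X, NB L x := by
    intro x
    obtain ⟨P, hxP, hP⟩ := K319.AbsCurve.exists_closed X x
    obtain ⟨s, hs⟩ := h P hP
    exact ⟨s, hxP.mem_open (CohB1.genLocus L s).2 hs⟩
  choose s hs using h1
  have h2 : ∀ x : X, ∃ U : X.Opens, IsAffineOpen U ∧ x ∈ U ∧ U ≤ CohB1.genLocus L (s x) := by
    intro x
    obtain ⟨U, hU, hxU, hle⟩ := exists_isAffineOpen_mem_and_subset (U := CohB1.genLocus L (s x)) (hs x)
    exact ⟨U, hU, hxU, hle⟩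
  choose U hU hxU hle using h2
  refine Ega2.GlobGenCrit.isGloballyGenerated_of_span (Ega2.QCohLocal.isQCoh_of_isInvertible hL) U hU ?_ ?_
  · rw [eq_top_iff]
    intro x _
    exact Opens.mem_iSup.mpr ⟨x, hxU x⟩
  · intro x
    rw [eq_top_iff]
    intro m _
    have h3 : IsGen (sec (s x) (U x)) := (le_genLocus_iff _ _).mp (hle x)
    obtain ⟨a, ha⟩ := h3.exists_eq m
    rw [ha]
    refine Submodule.smul_mem _ a (Submodule.subset_span ⟨sec (s x) ⊤, ?_⟩)
    exact res_sec (s x) le_top

theorem isGloballyGenerated_iff [CompactSpace X] {L : X.Modules} (hL : PicF.IsInvertible L) :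
    Curv2.IsGloballyGenerated L ↔ ∀ P : X, IsClosed ({P} : Set X) → NB L P :=
  ⟨fun h P _ => Ega1.GlobGenPt.exists_mem_genLocus hL h P, isGloballyGenerated_of_NB hL⟩

section Curve

variable (k : Type u) [Field k] [IsAlgClosed k] [X.Over (Spec (CommRingCat.of k))]
  [IsIntegral X] [IsProper (X ↘ (Spec (CommRingCat.of k)))] (hdim : topologicalKrullDim X = 1)

include hdim in
theorem finrank_tensor_ideal (P : X) (hP : IsClosed ({P} : Set X)) {L : X.Modules} (hL : PicF.IsInvertible L) :
    Module.finrank k (Coh.HH X (CohB1.tensorMod L (ClSub.idealMod (I X P hP))) 0) + 1 =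
      Module.finrank k (Coh.HH X L 0) ↔ NB L P := by
  have h1 := finrank_ideal' P hP k hdim hL
  have h2 : Module.finrank k (Coh.HH X (CohB1.tensorMod L (ClSub.idealMod (I X P hP))) 0) =
      Module.finrank k (Coh.HH X (CohB1.tensorMod (ClSub.idealMod (I X P hP)) L) 0) :=
    (VarietyA.EulerLES.equivA k (Ega2.Tens.swap _ _) 0).finrank_eq
  rw [h2]
  constructor
  · intro h
    by_contra hn
    have := h1.2 hn
    omega
  · exact h1.1

end Curve

end K319.Base
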