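import Groth.Agent.Curves.K319.RankTwo
import Groth.Agent.Curves.K319.PicCD
import Groth.Agent.Curves.K319.LinS

/-!
# Morphisms between invertible modules and classes in the Picard group; linear stability of the canonical series
-/

set_option autoImplicit false
universe u

open CategoryTheory CategoryTheory.Limits AlgebraicGeometry TopologicalSpace IsLocalRing

namespace K319.HomSub

open Groth.Agent Groth.Agent.Fdesc.LocGen K319.Setup K319.PicCD Groth.Agent.Grpsch.PicGrp K532.CurvePic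

section general

variable {X : Scheme.{u}}

theorem nontrivial_of_hom {L P E : X.Modules} (e : CohB1.tensorMod L P ≅ Coh.structureModule X) (f : L ⟶ E)
    (hf : f ≠ 0) : Nontrivial (Coh.HH X (CohB1.tensorMod E P) 0) := by
  rw [← not_subsingleton_iff_nontrivial]
  intro h2
  have h3 := Flat2E.FormalLift418.faithful_tw e
  apply hf
  apply (DCoh.tensorRightMod P).map_injective
  let e' : (DCoh.tensorRightMod P).obj L ≅ Coh.structureModule X := e
  have h4 := K703.Twist.eq_zero_of_h0 h2 (e'.inv ≫ (DCoh.tensorRightMod P).map f)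
  have h5 : (DCoh.tensorRightMod P).map f = 0 := by
    rw [← cancel_epi e'.inv, comp_zero]
    exact h4
  rw [h5, Functor.map_zero]

theorem exists_hom_of_nontrivial {L P E : X.Modules} (e : CohB1.tensorMod L P ≅ Coh.structureModule X)
    (h : Nontrivial (Coh.HH X (CohB1.tensorMod E P) 0)) : ∃ f : L ⟶ E, f ≠ 0 := by
  by_contra hcon
  push Not at hcon
  exact not_subsingleton (Coh.HH X (CohB1.tensorMod E P) 0) (K703.Twist.h0_tensor_eq_zero e hcon)

end general

variable (k : Type u) [Field k] [IsAlgClosed k] {X : Scheme.{u}} [X.Over (Spec (CommRingCat.of k))]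
  [IsIntegral X] [IsProper (X ↘ (Spec (CommRingCat.of k)))]

theorem crv (hX : Reg X) : K707.Base.Crv k X := by
  have := smooth k X hX.reg
  exact K707.Base.Crv.of_smooth hX.dim

theorem h_div_ne_zero_iff (hX : Reg X) {L M : X.Modules} (hL : PicF.IsInvertible L) (hM : PicF.IsInvertible M) :
    h k X 0 (mk M hM / mk L hL) ≠ 0 ↔ ∃ f : L ⟶ M, f ≠ 0 := by
  obtain ⟨P, hP, ⟨e⟩⟩ := exists_inverse hL
  have h1 : mk P hP = (mk L hL)⁻¹ := by
    rw [eq_inv_iff_mul_eq_one, mul_comm, mk_mul_mk, mk_eq_one_iff]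
    exact ⟨e⟩
  rw [div_eq_mul_inv, ← h1, mk_mul_mk, ← Nat.pos_iff_ne_zero,
    ← nontrivial_iff (hX.isCurve (k := k)) (isInvertible_tensorMod hM hP) 0]
  exact ⟨fun h => exists_hom_of_nontrivial e h, fun ⟨f, hf⟩ => nontrivial_of_hom e f hf⟩

include k in
theorem mono_of_ne_zero (hX : Reg X) {L M : X.Modules} (hL : PicF.IsInvertible L) (hM : PicF.IsInvertible M)
    (f : L ⟶ M) (hf : f ≠ 0) : Mono f :=
  K708.SSH0.mono_of_rank_one (crv k hX) (Ega2.QCohLocal.isFinLocFreeOfRank_one_iff.2 hL)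
    (K707.Base.isFinLocFree_of_rank (Ega2.QCohLocal.isFinLocFreeOfRank_one_iff.2 hM)) f hf

theorem ne_zero_of_mono {L M : X.Modules} (hL : PicF.IsInvertible L)
    (f : L ⟶ M) [Mono f] : f ≠ 0 := fun h0 => by
  have hz : IsZero L := IsZero.of_mono_eq_zero f h0
  have h5 := K707.Base.rk_of_rank (Ega2.QCohLocal.isFinLocFreeOfRank_one_iff.2 hL)
  have h6 : VarietyA.DegRank.rk L = 0 := K707.Slope.rk_of_isZero hz
  omega

theorem isIso_of_deg (hX : Reg X) {L M : X.Modules} (hL : PicF.IsInvertible L) (hM : PicF.IsInvertible M)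
    (f : L ⟶ M) [Mono f] (hd : Curv2.deg k X M 1 ≤ Curv2.deg k X L 1) : IsIso f := by
  have h1 := Ega2.QCohLocal.isFinLocFreeOfRank_one_iff.2 hL
  have h2 := Ega2.QCohLocal.isFinLocFreeOfRank_one_iff.2 hM
  refine K707.Semi.isIso_of_mono (crv k hX) f (K707.Base.isCoh_of_rank h1) (K707.Base.isCoh_of_rank h2) ?_ ?_
  · rw [K707.Base.rk_of_rank h1, K707.Base.rk_of_rank h2]
  · rw [K707.Deg.dg_of_rank k h1, K707.Deg.dg_of_rank k h2]
    exact hd

theorem deg_omega (hX : Reg X) : Curv2.deg k X (Omega.sheaf (X ↘ (Spec (CommRingCat.of k)))) 1 =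
    2 * (Curv2.genus k X : ℤ) - 2 := by
  have h1 := (cd k X hX).deg_K
  change deg k X (om (hX.isCurve (k := k))) = 2 * (Curv2.genus k X : ℤ) - 2 at h1
  rw [← h1, om, deg_mk k X hX.dim]

theorem h0_omega (hX : Reg X) : Module.finrank k (Coh.HH X (Omega.sheaf (X ↘ (Spec (CommRingCat.of k)))) 0) =
    Curv2.genus k X := by
  have h1 := (cd k X hX).h_K
  change h k X 0 (om (hX.isCurve (k := k))) = Curv2.genus k X at h1
  rw [← h1, om, h_mk]

/-- Clifford's inequality for subsheaves of the canonical sheaf -/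
theorem clifford_sub (hX : Reg X) {M : X.Modules} (hM : PicF.IsInvertible M)
    (ι : M ⟶ Omega.sheaf (X ↘ (Spec (CommRingCat.of k)))) [Mono ι]
    (h2 : 2 ≤ Module.finrank k (Coh.HH X M 0)) :
    2 * ((Module.finrank k (Coh.HH X M 0) : ℤ) - 1) ≤ Curv2.deg k X M 1 := by
  have h1 := (h_div_ne_zero_iff k hX hM (isInvertible_omega (hX.isCurve (k := k)))).mpr ⟨ι, ne_zero_of_mono hM ι⟩
  have h3 : (cd k X hX).h (Additive.ofMul (mk M hM)) ≠ 0 := by
    change h k X 0 (mk M hM) ≠ 0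
    rw [h_mk]
    omega
  have h4 := ((cd k X hX).clifford (Additive.ofMul (mk M hM)) h3 h1).2
  change 2 * (h k X 0 (mk M hM) : ℤ) ≤ deg k X (mk M hM) + 2 at h4
  rw [h_mk, deg_mk k X hX.dim] at h4
  linarith

theorem exists_linSer (hX : Reg X) (c : Additive (Pic X)) (hc1 : (cd k X hX).deg c = 2) (hc2 : 2 ≤ (cd k X hX).h c) :
    ∃ (N : X.Modules) (t : Fin 2 → LinSer.Sect X N), LinSer.IsLinSer k X N 2 1 t := by
  obtain ⟨N, hN, hcN⟩ := exists_mk c.toMul
  have hfin := finite_HH (hX.isCurve (k := k)) hN 0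
  have hdN : Curv2.deg k X N 1 = (2 : ℕ) := by
    rw [← deg_mk k X hX.dim hN, ← hcN]
    exact hc1
  have hhN : 1 + 1 ≤ Module.finrank k (Coh.HH X N 0) := by
    rw [← h_mk k X 0 hN, ← hcN]
    exact hc2
  obtain ⟨s, hs⟩ := K319.LinS.exists_isLinSer k N hN 2 1 hdN hhN
  exact ⟨N, s, hs⟩

theorem stable (hX : Reg X) (hg : 2 ≤ Curv2.genus k X)
    (hnh : ¬ ∃ (N : X.Modules) (t : Fin 2 → LinSer.Sect X N), LinSer.IsLinSer k X N 2 1 t)
    {M : X.Modules} (hM : PicF.IsInvertible M)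
    (ι : M ⟶ Omega.sheaf (X ↘ (Spec (CommRingCat.of k)))) [Mono ι] (hι : ¬ IsIso ι)
    (h2 : 2 ≤ Module.finrank k (Coh.HH X M 0)) :
    Curv2.deg k X (Omega.sheaf (X ↘ (Spec (CommRingCat.of k)))) 1 * ((Module.finrank k (Coh.HH X M 0) : ℤ) - 1) <
      Curv2.deg k X M 1 * ((Module.finrank k (Coh.HH X (Omega.sheaf (X ↘ (Spec (CommRingCat.of k)))) 0) : ℤ) - 1) := by
  have h1 := clifford_sub k hX hM ι h2
  have hΩ := isInvertible_omega (hX.isCurve (k := k))
  rw [deg_omega k hX, h0_omega k hX]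
  have h3 : 2 * ((Module.finrank k (Coh.HH X M 0) : ℤ) - 1) ≠ Curv2.deg k X M 1 := by
    intro heq
    have h4 := (h_div_ne_zero_iff k hX hM hΩ).mpr ⟨ι, ne_zero_of_mono hM ι⟩
    have h5 : (cd k X hX).h (Additive.ofMul (mk M hM)) = Module.finrank k (Coh.HH X M 0) := h_mk k X 0 hM
    have h6 : (cd k X hX).deg (Additive.ofMul (mk M hM)) = Curv2.deg k X M 1 := deg_mk k X hX.dim hM
    obtain ⟨c, hc1, hc2, -⟩ := (cd k X hX).clifford_eq (Additive.ofMul (mk M hM)) (by omega) h4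
      (by
        intro h0
        rw [h0, (cd k X hX).h_zero] at h5
        omega)
      (by
        intro hK
        apply hι
        apply isIso_of_deg k hX hM hΩ ι
        rw [deg_omega k hX, ← h6, hK, (cd k X hX).deg_K]
        exact le_rfl)
      (by rw [h5, h6]; linarith)
    exact hnh (exists_linSer k hX c hc1 hc2.ge)
  have h7 : 2 * ((Module.finrank k (Coh.HH X M 0) : ℤ) - 1) < Curv2.deg k X M 1 := lt_of_le_of_ne h1 h3
  have h8 : (0 : ℤ) < (Curv2.genus k X : ℤ) - 1 := by omega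
  nlinarith

theorem semistable (hX : Reg X) (hg : 3 ≤ Curv2.genus k X)
    (N : X.Modules) (t : Fin 2 → LinSer.Sect X N) (hN : LinSer.IsLinSer k X N 2 1 t) :
    (∀ (M : X.Modules) (ι : M ⟶ Omega.sheaf (X ↘ (Spec (CommRingCat.of k)))), PicF.IsInvertible M → Mono ι → ¬ IsIso ι →
        2 ≤ Module.finrank k (Coh.HH X M 0) →
        Curv2.deg k X (Omega.sheaf (X ↘ (Spec (CommRingCat.of k)))) 1 * ((Module.finrank k (Coh.HH X M 0) : ℤ) - 1) ≤
          Curv2.deg k X M 1 * ((Module.finrank k (Coh.HH X (Omega.sheaf (X ↘ (Spec (CommRingCat.of k)))) 0) : ℤ) - 1)) ∧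
      ∃ ι : N ⟶ Omega.sheaf (X ↘ (Spec (CommRingCat.of k))), Mono ι ∧ ¬ IsIso ι ∧
        Curv2.deg k X (Omega.sheaf (X ↘ (Spec (CommRingCat.of k)))) 1 * ((Module.finrank k (Coh.HH X N 0) : ℤ) - 1) =
          Curv2.deg k X N 1 * ((Module.finrank k (Coh.HH X (Omega.sheaf (X ↘ (Spec (CommRingCat.of k)))) 0) : ℤ) - 1) := by
  have hΩ := isInvertible_omega (hX.isCurve (k := k))
  refine ⟨fun M ι hM hι _ h2 => ?_, ?_⟩
  · have h1 := clifford_sub k hX hM ι h2
    rw [deg_omega k hX, h0_omega k hX]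
    have h8 : (0 : ℤ) < (Curv2.genus k X : ℤ) - 1 := by omega
    nlinarith
  · have hfin := finite_HH (hX.isCurve (k := k)) hN.1 0
    have h1 := K319.LinS.le_finrank k hN
    have h5 : (cd k X hX).h (Additive.ofMul (mk N hN.1)) = Module.finrank k (Coh.HH X N 0) := h_mk k X 0 hN.1
    have h6 : (cd k X hX).deg (Additive.ofMul (mk N hN.1)) = Curv2.deg k X N 1 := deg_mk k X hX.dim hN.1
    have h7 : Curv2.deg k X N 1 = 2 := hN.2.1
    have h8 := (cd k X hX).rr (Additive.ofMul (mk N hN.1))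
    have h9 : (cd k X hX).g = Curv2.genus k X := rfl
    have h10 : (cd k X hX).h ((cd k X hX).K - Additive.ofMul (mk N hN.1)) ≠ 0 := by omega
    have h11 := ((cd k X hX).clifford (Additive.ofMul (mk N hN.1)) (by omega) h10).2
    obtain ⟨ι, hι⟩ := (h_div_ne_zero_iff k hX hN.1 hΩ).mp h10
    have hm := mono_of_ne_zero k hX hN.1 hΩ ι hι
    have h12 : (Module.finrank k (Coh.HH X N 0) : ℤ) = 2 := by omega
    refine ⟨ι, hm, fun hiso => ?_, ?_⟩
    · have h13 := K707.Deg.dg_iso k (asIso ι)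
      rw [K707.Deg.dg_of_rank k (Ega2.QCohLocal.isFinLocFreeOfRank_one_iff.2 hN.1),
        K707.Deg.dg_of_rank k (Ega2.QCohLocal.isFinLocFreeOfRank_one_iff.2 hΩ), deg_omega k hX, h7] at h13
      omega
    · rw [deg_omega k hX, h0_omega k hX, h12, h7]
      ring

end K319.HomSub
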