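import Groth.Agent.Models.H55.PtDeg
import Groth.Agent.S1561
import Groth.Agent.VarietyA.CurveFin
import Groth.Agent.CurvesB.TwistIdeal
import Groth.Agent.CurvesB.SepPoints
import Groth.Agent.CurvesA.CurveDvr

/-!
# Regular proper curves over an algebraically closed field: smoothness, ideals of closed points
-/

set_option autoImplicit false
universe u

open CategoryTheory CategoryTheory.Limits AlgebraicGeometry TopologicalSpace IsLocalRing

namespace K319.Setup

open Groth.Agent Groth.Agent.Dix.InterNum Groth.Agent.Divis.CartierStalk Groth.Agent.Divis.CartierBasic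

section Smooth

variable (k : Type u) [Field k] [PerfectField k] (X : Scheme.{u}) [X.Over (Spec (CommRingCat.of k))]
  [IsIntegral X] [IsProper (X ↘ (Spec (CommRingCat.of k)))]

include k in
theorem isLocallyNoetherian : IsLocallyNoetherian X :=
  LocallyOfFiniteType.isLocallyNoetherian (X ↘ (Spec (CommRingCat.of k)))

theorem smooth (hreg : ∀ x : X, IsRegularLocalRing (X.presheaf.stalk x)) :
    Smooth (X ↘ (Spec (CommRingCat.of k))) := by
  have h1 : LocallyOfFinitePresentation (X ↘ (Spec (CommRingCat.of k))) := inferInstance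
  rw [← Scheme.Hom.smoothLocus_eq_top_iff, eq_top_iff]
  intro x _
  exact ((S1561.result k X).1 x).mpr (hreg x)

theorem isSmoothProperCurve (hdim : topologicalKrullDim X = 1)
    (hreg : ∀ x : X, IsRegularLocalRing (X.presheaf.stalk x)) :
    Curve.IsSmoothProperCurve k X (X ↘ (Spec (CommRingCat.of k))) :=
  ⟨inferInstance, smooth k X hreg, inferInstance, hdim⟩

include k in
theorem isDVR (hdim : topologicalKrullDim X = 1)
    (hreg : ∀ x : X, IsRegularLocalRing (X.presheaf.stalk x)) {x : X} (hx : x ≠ genericPoint X) :
    IsDiscreteValuationRing (X.presheaf.stalk x) := by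
  have := smooth k X hreg
  exact CurvesA.CurveDvr.isDiscreteValuationRing_stalk (X ↘ (Spec (CommRingCat.of k))) hdim.le x hx

end Smooth

/-- the generic point of a curve is not closed -/
theorem ne_genericPoint {X : Scheme.{u}} [IsIntegral X] (hdim : topologicalKrullDim X = 1) {P : X}
    (hP : IsClosed ({P} : Set X)) : P ≠ genericPoint X := by
  rintro rfl
  obtain ⟨x, hx⟩ := CurvesA.CurveDvr.exists_ne_genericPoint (X := X) hdim
  apply hx
  have h1 : x ∈ closure ({genericPoint X} : Set X) := (genericPoint_specializes x).mem_closure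
  rw [hP.closure_eq] at h1
  exact h1

/-- the ideal of a closed point -/
noncomputable abbrev I (X : Scheme.{u}) (P : X) (hP : IsClosed ({P} : Set X)) : X.IdealSheafData :=
  Scheme.IdealSheafData.vanishingIdeal ⟨{P}, hP⟩

section Pt

variable {X : Scheme.{u}} (P : X) (hP : IsClosed ({P} : Set X))

theorem support_I : ((I X P hP).support : Set X) = {P} :=
  Scheme.IdealSheafData.coe_support_vanishingIdeal _

theorem mem_support_I {x : X} : x ∈ (I X P hP).support ↔ x = P := by
  rw [← SetLike.mem_coe, support_I]
  rfl

theorem I_eq_ker : I X P hP = (X.fromSpecResidueField P).ker := by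
  have hcl : IsClosedImmersion (X.fromSpecResidueField P) := isClosed_singleton_iff_isClosedImmersion.mp hP
  have h := Ega1.ReducedSub.ker_eq_vanishingIdeal (X.fromSpecResidueField P)
  rw [h]
  have h2 : (⟨{P}, hP⟩ : Closeds X) = ⟨closure (Set.range (X.fromSpecResidueField P)), isClosed_closure⟩ := by
    apply SetLike.coe_injective
    change ({P} : Set X) = closure (Set.range (X.fromSpecResidueField P))
    rw [Scheme.range_fromSpecResidueField, hP.closure_eq]
  exact congrArg Scheme.IdealSheafData.vanishingIdeal h2

theorem stalkIdeal_I : stalkIdeal (I X P hP) P = maximalIdeal (X.presheaf.stalk P) := by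
  have hcl : IsClosedImmersion (X.fromSpecResidueField P) := isClosed_singleton_iff_isClosedImmersion.mp hP
  rw [I_eq_ker]
  exact Models.H55.PtDeg.stalkIdeal_ker_fromSpecResidueField P

theorem dim_support_I : topologicalKrullDim ((I X P hP).support : Set X) ≤ 0 := by
  refine CurvesB.SepPoints.topologicalKrullDim_le_zero ?_ ?_
  · rw [support_I]; exact Set.finite_singleton P
  · intro x hx
    rw [support_I] at hx
    rw [Set.mem_singleton_iff.mp hx]
    exact hP

end Pt

section Curve

variable (k : Type u) [Field k] (X : Scheme.{u}) [X.Over (Spec (CommRingCat.of k))]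
  [IsIntegral X] [IsProper (X ↘ (Spec (CommRingCat.of k)))] (hdim : topologicalKrullDim X = 1)
  (hreg : ∀ x : X, IsRegularLocalRing (X.presheaf.stalk x)) (P : X) (hP : IsClosed ({P} : Set X))

include k hdim hreg in
theorem isEff_I [PerfectField k] : BlowUp.IsEffCartierIdeal (I X P hP) := by
  have := isLocallyNoetherian k X
  have hcl : IsClosedImmersion (X.fromSpecResidueField P) := isClosed_singleton_iff_isClosedImmersion.mp hP
  have hd := isDVR k X hdim hreg (ne_genericPoint hdim hP)
  obtain ⟨ϖ, hϖ⟩ := IsDiscreteValuationRing.exists_irreducible (X.presheaf.stalk P)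
  rw [I_eq_ker]
  exact Models.H55.PtDeg.isEff_ker_fromSpecResidueField P ϖ hϖ.maximalIdeal_eq hϖ.ne_zero

theorem finrank_quotMod_I [IsAlgClosed k] : Module.finrank k (Coh.HH X (ClSub.quotMod (I X P hP)) 0) = 1 := by
  have hcl : IsClosedImmersion (X.fromSpecResidueField P) := isClosed_singleton_iff_isClosedImmersion.mp hP
  rw [I_eq_ker, finrank_quotMod]
  have h1 : h0 ((X.fromSpecResidueField P).ker.subschemeι ≫ (X ↘ Spec (CommRingCat.of k))) =
      h0 (X.fromSpecResidueField P ≫ (X ↘ Spec (CommRingCat.of k))) := by
    refine h0_congr _ _ (asIso (X.fromSpecResidueField P).toImage).symm ?_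
    rw [Iso.symm_hom, asIso_inv, IsIso.inv_comp_eq, ← Category.assoc]
    congr 1
    exact ((X.fromSpecResidueField P).toImage_imageι).symm
  rw [h1]
  apply Models.H55.PtDeg.h0_eq_one
  apply Models.H55.PtDeg.surjective_glo
  intro c
  exact CurvesB.SepPoints.exists_const_sub_mem (X ↘ Spec (CommRingCat.of k)) P hP c

end Curve

end K319.Setup
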