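import Groth.Agent.S7916
import Groth.Agent.S8120
import Groth.Agent.Grpsch.Transl
import Groth.Agent.Fdesc.BaseField
import Groth.Agent.Flat2B.SmoothGeom
import Groth.Agent.Curves.K319.Setup

/-!
# The group law on a curve of genus one and linear equivalence of divisors
-/

set_option autoImplicit false
universe u

open CategoryTheory CategoryTheory.Limits AlgebraicGeometry MonoidalCategory CartesianMonoidalCategory MonObj
  TopologicalSpace

namespace K319.Invol

open Groth.Agent Groth.Agent.Grpsch.Transl K319.Setup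

/-- the vanishing ideal of a closed set pulls back along isomorphisms -/
theorem comap_vanishingIdeal {X Y : Scheme.{u}} (f : X ≅ Y) (Z : Closeds Y) :
    (Scheme.IdealSheafData.vanishingIdeal Z).comap f.hom =
      Scheme.IdealSheafData.vanishingIdeal (Z.preimage f.hom.continuous) := by
  have key : ∀ J : X.IdealSheafData, J ≤ (Scheme.IdealSheafData.vanishingIdeal Z).comap f.hom ↔
      J ≤ Scheme.IdealSheafData.vanishingIdeal (Z.preimage f.hom.continuous) := by
    intro J
    rw [← Scheme.IdealSheafData.le_support_iff_le_vanishingIdeal]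
    have h1 : J ≤ (Scheme.IdealSheafData.vanishingIdeal Z).comap f.hom ↔
        J.comap f.inv ≤ Scheme.IdealSheafData.vanishingIdeal Z := by
      constructor
      · intro h
        have := Scheme.IdealSheafData.comap_mono (f := f.inv) h
        dsimp only at this
        rwa [← Scheme.IdealSheafData.comap_comp, f.inv_hom_id, Scheme.IdealSheafData.comap_id] at this
      · intro h
        have := Scheme.IdealSheafData.comap_mono (f := f.hom) h
        dsimp only at this
        rwa [← Scheme.IdealSheafData.comap_comp, f.hom_inv_id, Scheme.IdealSheafData.comap_id] at this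
    rw [h1, ← Scheme.IdealSheafData.le_support_iff_le_vanishingIdeal, Scheme.IdealSheafData.support_comap]
    constructor
    · intro h x hx
      have h2 := h hx
      change f.inv (f.hom x) ∈ (J.support : Set X) at h2
      rwa [← Scheme.Hom.comp_apply, f.hom_inv_id] at h2
    · intro h x hx
      apply h
      change f.hom (f.inv x) ∈ Z
      rwa [← Scheme.Hom.comp_apply, f.inv_hom_id]
  exact le_antisymm ((key _).mp le_rfl) ((key _).mpr le_rfl)

theorem comap_I {X : Scheme.{u}} (f : X ≅ X) {x y : X} (hx : IsClosed ({x} : Set X)) (hy : IsClosed ({y} : Set X))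
    (h : f.hom x = y) : (I X y hy).comap f.hom = I X x hx := by
  rw [I, comap_vanishingIdeal]
  congr 1
  ext z
  change f.hom z = y ↔ z = x
  constructor
  · intro hz
    rw [← h] at hz
    have := congrArg f.inv hz
    rwa [← Scheme.Hom.comp_apply, ← Scheme.Hom.comp_apply, f.hom_inv_id] at this
  · rintro rfl
    exact h

variable (k : Type u) [Field k] [IsAlgClosed k] (X : Scheme.{u}) [X.Over (Spec (CommRingCat.of k))]
    [IsIntegral X] [IsProper (X ↘ (Spec (CommRingCat.of k)))]

/-- two rational points with the same image are equal -/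
theorem point_ext (G : Over (Spec (CommRingCat.of k))) [LocallyOfFiniteType G.hom]
    (a b : 𝟙_ (Over (Spec (CommRingCat.of k))) ⟶ G)
    (h : a.left (IsLocalRing.closedPoint k) = b.left (IsLocalRing.closedPoint k)) : a = b := by
  have h1 : (⟨a.left, Over.w a⟩ : {p : Spec (CommRingCat.of k) ⟶ G.left // p ≫ G.hom = 𝟙 _}) = ⟨b.left, Over.w b⟩ := by
    apply (pointEquivClosedPoint G.hom).injective
    exact Subtype.ext h
  ext1
  exact congrArg Subtype.val h1

theorem isClosed_point (G : Over (Spec (CommRingCat.of k))) [LocallyOfFiniteType G.hom]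
    (a : 𝟙_ (Over (Spec (CommRingCat.of k))) ⟶ G) :
    IsClosed ({a.left (IsLocalRing.closedPoint k)} : Set G.left) :=
  (pointEquivClosedPoint G.hom ⟨a.left, Over.w a⟩).2

set_option backward.isDefEq.respectTransparency false in
theorem comp_point {G H : Over (Spec (CommRingCat.of k))} (a : 𝟙_ (Over (Spec (CommRingCat.of k))) ⟶ G) (f : G ⟶ H) :
    (a ≫ f).left (IsLocalRing.closedPoint k) = f.left (a.left (IsLocalRing.closedPoint k)) := by
  rw [Over.comp_left, Scheme.Hom.comp_apply]

/-- the involution `x ↦ q - x` -/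
theorem exists_invol {C : Type*} [Category C] [CartesianMonoidalCategory C] [BraidedCategory C] (E : C) [GrpObj E]
    [IsCommMonObj E] (q : 𝟙_ C ⟶ E) :
    ∃ σ : E ≅ E, σ.hom ≫ σ.hom = 𝟙 E ∧ ∀ r : 𝟙_ C ⟶ E, r * (r ≫ σ.hom) = q := by
  have h1 : ((toUnit E ≫ q) * (𝟙 E)⁻¹) ≫ ((toUnit E ≫ q) * (𝟙 E)⁻¹) = 𝟙 E := by
    rw [MonObj.comp_mul, GrpObj.comp_inv, Category.comp_id, ← Category.assoc, toUnit_unique (_ ≫ toUnit E) (toUnit E),
      mul_inv_rev, inv_inv, mul_comm (𝟙 E), mul_inv_cancel_left]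
  refine ⟨⟨(toUnit E ≫ q) * (𝟙 E)⁻¹, (toUnit E ≫ q) * (𝟙 E)⁻¹, h1, h1⟩, h1, fun r => ?_⟩
  rw [MonObj.comp_mul, GrpObj.comp_inv, Category.comp_id, ← Category.assoc,
    toUnit_unique (r ≫ toUnit E) (𝟙 _), Category.id_comp, mul_comm, inv_mul_cancel_right]

/-- the theorem of the square for points of a curve of genus one -/
theorem tensor_ideal (hdim : topologicalKrullDim X = 1) (hreg : ∀ x : X, IsRegularLocalRing (X.presheaf.stalk x))
    [GrpObj (Over.mk (X ↘ (Spec (CommRingCat.of k))))] [IsCommMonObj (Over.mk (X ↘ (Spec (CommRingCat.of k))))]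
    [LocallyOfFiniteType (Over.mk (X ↘ (Spec (CommRingCat.of k)))).hom]
    (P R S T : X) (hP : IsClosed ({P} : Set X)) (hR : IsClosed ({R} : Set X)) (hS : IsClosed ({S} : Set X))
    (hT : IsClosed ({T} : Set X)) (hη : η[Over.mk (X ↘ (Spec (CommRingCat.of k)))] = pt (Over.mk (X ↘ (Spec (CommRingCat.of k)))) P hP)
    (h : pt (Over.mk (X ↘ (Spec (CommRingCat.of k)))) R hR * pt (Over.mk (X ↘ (Spec (CommRingCat.of k)))) S hS =
      pt (Over.mk (X ↘ (Spec (CommRingCat.of k)))) T hT) :
    Nonempty (CohB1.tensorMod (ClSub.idealMod (I X R hR)) (ClSub.idealMod (I X S hS)) ≅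
      CohB1.tensorMod (ClSub.idealMod (I X T hT)) (ClSub.idealMod (I X P hP))) := by
  let E := Over.mk (X ↘ (Spec (CommRingCat.of k)))
  have hEp : IsProper E.hom := ‹IsProper (X ↘ (Spec (CommRingCat.of k)))›
  have hEi : IsIntegral E.left := ‹IsIntegral X›
  have hEs : Smooth E.hom := smooth k X hreg
  have hEr : GeometricallyIrreducible E.hom :=
    Fdesc.BaseField.geometricallyIrreducible_of_isAlgClosed (X ↘ (Spec (CommRingCat.of k)))
  have hEg : GeometricallyIntegral E.hom := Flat2B.SmoothGeom.geometricallyIntegral_of_smooth E.hom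
  have key : ∀ (c : 𝟙_ (Over (Spec (CommRingCat.of k))) ⟶ E) (Z : X) (hZ : IsClosed ({Z} : Set X)),
      pt E Z hZ * c = 1 → Nonempty ((Scheme.Modules.pullback (𝟙 E * (toUnit E ≫ c)).left).obj
        (ClSub.idealMod (I X P hP)) ≅ ClSub.idealMod (I X Z hZ)) := by
    intro c Z hZ hc
    let t : X ≅ X := (Over.forget _).mapIso (rightTr E c)
    have h1 : t.hom Z = P := by
      have h2 := point_rightTr E c (pt E Z hZ)
      rw [hc, Hom.one_def, hη, toUnit_unique (toUnit (𝟙_ _)) (𝟙 _), Category.id_comp] at h2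
      have h3 := congr(($h2).left (IsLocalRing.closedPoint k))
      rw [comp_point, pt_apply, pt_apply] at h3
      exact h3
    have h4 := comap_I t hZ hP h1
    have hE := isEff_I k X hdim hreg P hP
    have hE' := isEff_I k X hdim hreg Z hZ
    have h5 := Dix.IdealModCartier.pullback_idealMod t.hom hE (by rw [h4]; exact hE')
    rw [h4] at h5
    exact h5
  have hI := Dix.IdealModCartier.isInvertible_idealMod (isEff_I k X hdim hreg P hP)
  obtain ⟨e⟩ := S8120.result k E (ClSub.idealMod (I X P hP)) hI (pt E R hR)⁻¹ (pt E S hS)⁻¹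
  obtain ⟨e1⟩ := key (pt E R hR)⁻¹ R hR (mul_inv_cancel _)
  obtain ⟨e2⟩ := key (pt E S hS)⁻¹ S hS (mul_inv_cancel _)
  obtain ⟨e3⟩ := key ((pt E R hR)⁻¹ * (pt E S hS)⁻¹) T hT (by
    rw [← h, ← mul_inv, mul_inv_cancel])
  exact ⟨(Ega2.Tens.mapTIso e1 e2).symm ≪≫ e.symm ≪≫ Ega2.Tens.mapTIso e3 (Iso.refl _)⟩

theorem main (hdim : topologicalKrullDim X = 1) (hreg : ∀ x : X, IsRegularLocalRing (X.presheaf.stalk x))
    (hg : Curv2.genus k X = 1)
    (P Q : X) (hP : IsClosed ({P} : Set X)) (hQ : IsClosed ({Q} : Set X)) :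
    ∃ σ : X ≅ X, σ.hom ≫ (X ↘ (Spec (CommRingCat.of k))) = (X ↘ (Spec (CommRingCat.of k))) ∧ σ.hom ≫ σ.hom = 𝟙 X ∧ σ.hom P = Q ∧
      ∀ (R R' : X) (hR : IsClosed ({R} : Set X)) (hR' : IsClosed ({R'} : Set X)), σ.hom R = R' →
        Nonempty (CohB1.tensorMod (ClSub.idealMod (I X R hR)) (ClSub.idealMod (I X R' hR')) ≅
          CohB1.tensorMod (ClSub.idealMod (I X P hP)) (ClSub.idealMod (I X Q hQ))) := by
  let E := Over.mk (X ↘ (Spec (CommRingCat.of k)))
  have hEs : Smooth E.hom := smooth k X hreg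
  have hEp : IsProper E.hom := ‹IsProper (X ↘ (Spec (CommRingCat.of k)))›
  have hEi : IsIntegral E.left := ‹IsIntegral X›
  have hEg : GeometricallyIrreducible E.hom :=
    Fdesc.BaseField.geometricallyIrreducible_of_isAlgClosed (X ↘ (Spec (CommRingCat.of k)))
  obtain ⟨G, hη, hcomm⟩ := S7916.result k E hdim hg (pt E P hP)
  obtain ⟨σ, hσ, hσ'⟩ := exists_invol E (pt E Q hQ)
  have hpt : ∀ (R : X) (hR : IsClosed ({R} : Set X)) (hR' : IsClosed ({σ.hom.left R} : Set X)),
      pt E R hR ≫ σ.hom = pt E (σ.hom.left R) hR' := by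
    intro R hR hR'
    apply point_ext
    rw [comp_point, pt_apply, pt_apply]
  refine ⟨(Over.forget _).mapIso σ, Over.w σ.hom, ?_, ?_, ?_⟩
  · change σ.hom.left ≫ σ.hom.left = 𝟙 _
    rw [← Over.comp_left, hσ]
    rfl
  · have h1 := hσ' (pt E P hP)
    have h2 : pt E P hP = 1 := by
      rw [Hom.one_def, toUnit_unique (toUnit (𝟙_ _)) (𝟙 _), Category.id_comp]
      exact hη.symm
    have h3 : pt E P hP ≫ σ.hom = pt E Q hQ := by
      have h5 := h1
      generalize pt E P hP ≫ σ.hom = z at h5 ⊢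
      rw [h2] at h5
      exact (_root_.one_mul z).symm.trans h5
    have h4 := congr(($h3).left (IsLocalRing.closedPoint k))
    rw [comp_point, pt_apply, pt_apply] at h4
    exact h4
  · rintro R _ hR hR' rfl
    have h1 := hσ' (pt E R hR)
    rw [hpt R hR hR'] at h1
    obtain ⟨e⟩ := tensor_ideal k X hdim hreg P R _ Q hP hR hR' hQ hη h1
    exact ⟨e ≪≫ Ega2.Tens.swap _ _⟩

end K319.Invol
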