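import Groth.Agent.Curves.K319.CD3
import Groth.Agent.Curves.K319.HomSub
import Groth.Prelude.Def_PicF2

/-!
# Linear stability of projections of a trigonal canonical curve
-/

set_option autoImplicit false
universe u

open CategoryTheory CategoryTheory.Limits AlgebraicGeometry TopologicalSpace Opposite

namespace K319.LinSt

open Groth.Agent Groth.Agent.CurvesB K319.LinS K319.HomSub K319.PicCD Groth.Agent.Grpsch.PicGrp K532.CurvePic

section general

variable (k : Type u) [Field k] {X : Scheme.{u}} [X.Over (Spec (CommRingCat.of k))]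

theorem linIndep_of_map {M N : X.Modules} (ι : M ⟶ N) {m : ℕ} (v : Fin m → LinSer.Sect X M)
    (w : Fin m → LinSer.Sect X N) (hvw : ∀ j, (ι.val.app (op ⊤)).hom (v j) = w j) (hw : LinSer.LinIndep k X N w) :
    LinSer.LinIndep k X M v := by
  intro c hc
  apply hw c
  have h1 := congrArg (ι.val.app (op ⊤)).hom hc
  rw [map_zero, map_sum] at h1
  rw [← h1]
  refine Finset.sum_congr rfl fun j _ => ?_
  rw [← hvw j]
  exact ((ι.val.app (op ⊤)).hom.map_smul _ _).symm

theorem le_finrank {M : X.Modules} [Module.Finite k (Coh.HH X M 0)] {m : ℕ} (v : Fin m → LinSer.Sect X M)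
    (hv : LinSer.LinIndep k X M v) : m ≤ Module.finrank k (Coh.HH X M 0) := by
  have h := ((linIndep_iff k M v).mp hv).fintype_card_le_finrank
  simpa using h

theorem exists_sum {M : X.Modules} [Module.Finite k (Coh.HH X M 0)] {m : ℕ} (v : Fin m → LinSer.Sect X M)
    (hv : LinSer.LinIndep k X M v) (hm : m = Module.finrank k (Coh.HH X M 0)) (x : LinSer.Sect X M) :
    ∃ c : Fin m → k, x = ∑ i, (Coh.toGlobal (X ↘ Spec (CommRingCat.of k)) (c i)) • v i := by
  have h1 := ((linIndep_iff k M v).mp hv).span_eq_top_of_card_eq_finrank' (by rw [Fintype.card_fin]; exact hm)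
  have h2 : toH M x ∈ Submodule.span k (Set.range fun i => toH M (v i)) := by
    rw [h1]
    exact Submodule.mem_top
  obtain ⟨c, hc⟩ := (Submodule.mem_span_range_iff_exists_fun k).mp h2
  refine ⟨c, ?_⟩
  have h3 := equiv_sum k M v c
  rw [hc] at h3
  refine Eq.trans ?_ h3
  exact ((HZero.equivAdd M).apply_symm_apply (toΓ M x)).symm

theorem exists_span {M N : X.Modules} [Module.Finite k (Coh.HH X M 0)] (ι : M ⟶ N) {m n : ℕ}
    (w : Fin m → LinSer.Sect X N) (hw : LinSer.LinIndep k X N w) (σ : Fin n → LinSer.Sect X N)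
    (hwσ : ∀ j, ∃ c : Fin n → k, w j = ∑ i, (Coh.toGlobal (X ↘ Spec (CommRingCat.of k)) (c i)) • σ i)
    (hf : ∀ j, ∃ v : LinSer.Sect X M, (ι.val.app (op ⊤)).hom v = w j) (hm : m = Module.finrank k (Coh.HH X M 0))
    (x : LinSer.Sect X M) :
    ∃ c : Fin n → k, (ι.val.app (op ⊤)).hom x = ∑ i, (Coh.toGlobal (X ↘ Spec (CommRingCat.of k)) (c i)) • σ i := by
  choose v hv using hf
  choose d hd using hwσ
  obtain ⟨c, hc⟩ := exists_sum k v (linIndep_of_map k ι v w hv hw) hm x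
  refine ⟨fun i => ∑ j, c j * d j i, ?_⟩
  rw [hc, map_sum]
  have h1 : ∀ j, (ι.val.app (op ⊤)).hom ((Coh.toGlobal (X ↘ Spec (CommRingCat.of k)) (c j)) • v j) =
      ∑ i, (Coh.toGlobal (X ↘ Spec (CommRingCat.of k)) (c j * d j i)) • σ i := by
    intro j
    refine ((ι.val.app (op ⊤)).hom.map_smul _ _).trans ?_
    rw [hv j, hd j, Finset.smul_sum]
    refine Finset.sum_congr rfl fun i _ => ?_
    rw [map_mul, mul_smul]
  rw [Finset.sum_congr rfl fun j _ => h1 j, Finset.sum_comm]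
  refine Finset.sum_congr rfl fun i _ => ?_
  rw [map_sum, Finset.sum_smul]

end general

variable (k : Type u) [Field k] [IsAlgClosed k] {X : Scheme.{u}} [X.Over (Spec (CommRingCat.of k))]
  [IsIntegral X] [IsProper (X ↘ (Spec (CommRingCat.of k)))]

theorem h_le_one (hX : Reg X)
    (hnh : ¬ ∃ (N : X.Modules) (t : Fin 2 → LinSer.Sect X N), LinSer.IsLinSer k X N 2 1 t)
    (c : Additive (Pic X)) (hc : (cd k X hX).deg c = 2) : (cd k X hX).h c ≤ 1 := by
  by_contra hcon
  exact hnh (exists_linSer k hX c hc (by omega))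

theorem main (hX : Reg X) (hg : 5 ≤ Curv2.genus k X)
    (hnh : ¬ ∃ (N : X.Modules) (t : Fin 2 → LinSer.Sect X N), LinSer.IsLinSer k X N 2 1 t)
    (htr : ∃ (N : X.Modules) (t : Fin 2 → LinSer.Sect X N), LinSer.IsLinSer k X N 3 1 t)
    (σ : Fin (Curv2.genus k X - 1) → (Coh.structureModule X ⟶ Omega.sheaf (X ↘ (Spec (CommRingCat.of k)))))
    (hsec : ∀ (N : X.Modules) (ι : N ⟶ Omega.sheaf (X ↘ (Spec (CommRingCat.of k)))), PicF.IsInvertible N → Mono ι →
      Curv2.deg k X N 1 + 5 = 2 * (Curv2.genus k X : ℤ) → Module.finrank k (Coh.HH X N 0) + 2 = Curv2.genus k X →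
      ∃ v : LinSer.Sect X N, ∀ c : Fin (Curv2.genus k X - 1) → k,
        (ι.val.app (op ⊤)).hom v ≠ ∑ i, (Coh.toGlobal (X ↘ Spec (CommRingCat.of k)) (c i)) • PicF2.secVal (Omega.sheaf (X ↘ (Spec (CommRingCat.of k)))) (σ i) ⊤) :
    ∀ (m : ℕ) (w : Fin m → LinSer.Sect X (Omega.sheaf (X ↘ (Spec (CommRingCat.of k))))), 2 ≤ m → m + 1 < Curv2.genus k X →
      LinSer.LinIndep k X (Omega.sheaf (X ↘ (Spec (CommRingCat.of k)))) w →
      (∀ j, ∃ c : Fin (Curv2.genus k X - 1) → k,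
        w j = ∑ i, (Coh.toGlobal (X ↘ Spec (CommRingCat.of k)) (c i)) • PicF2.secVal (Omega.sheaf (X ↘ (Spec (CommRingCat.of k)))) (σ i) ⊤) →
      ∀ (M : X.Modules) (ι : M ⟶ Omega.sheaf (X ↘ (Spec (CommRingCat.of k)))), PicF.IsInvertible M → Mono ι →
        (∀ j, ∃ v : LinSer.Sect X M, (ι.val.app (op ⊤)).hom v = w j) →
        Curv2.deg k X (Omega.sheaf (X ↘ (Spec (CommRingCat.of k)))) 1 * ((m : ℤ) - 1) < Curv2.deg k X M 1 * ((Curv2.genus k X : ℤ) - 2) := by
  intro m w hm hmg hw hwσ M ι hM hι hf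
  have hC := hX.isCurve (k := k)
  have hΩ := isInvertible_omega hC
  have hfin := finite_HH hC hM 0
  obtain ⟨N, t, hN⟩ := htr
  have hfN := finite_HH hC hN.1 0
  have t1 : (cd k X hX).deg (Additive.ofMul (mk N hN.1)) = 3 := (deg_mk k X hX.dim hN.1).trans hN.2.1
  have t2 : 2 ≤ (cd k X hX).h (Additive.ofMul (mk N hN.1)) :=
    (K319.LinS.le_finrank k hN).trans (h_mk k X 0 hN.1).ge
  have h1 : m ≤ Module.finrank k (Coh.HH X M 0) := by
    have hf' := hf
    choose v hv using hf'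
    exact le_finrank k v (linIndep_of_map k ι v w hv hw)
  have h2 : (cd k X hX).h (Additive.ofMul (mk M hM)) = Module.finrank k (Coh.HH X M 0) := h_mk k X 0 hM
  have h3 : (cd k X hX).deg (Additive.ofMul (mk M hM)) = Curv2.deg k X M 1 := deg_mk k X hX.dim hM
  have h4 : (cd k X hX).h ((cd k X hX).K - Additive.ofMul (mk M hM)) ≠ 0 :=
    (h_div_ne_zero_iff k hX hM hΩ).mpr ⟨ι, ne_zero_of_mono hM ι⟩
  have h5 := (cd k X hX).lin_stable (h_le_one k hX hnh) _ t1 t2 hg (Additive.ofMul (mk M hM)) m hm hmg (by omega) h4 (by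
    rintro ⟨e1, e2, e3⟩
    rw [h3] at e1
    rw [h2] at e2
    obtain ⟨v, hv⟩ := hsec M ι hM hι e1 e2
    have e3' : m + 2 = Curv2.genus k X := e3
    obtain ⟨c, hc⟩ := exists_span k ι w hw _ hwσ hf (by omega) v
    exact hv c hc)
  rw [deg_omega k hX, ← h3]
  exact h5

end K319.LinSt
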