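import Groth.Agent.Curves.K319.Base
import Groth.Agent.Curves.K319.AbsDiv

/-!
# Base points: isomorphisms, tensor products, ideals of points, finiteness
-/

set_option autoImplicit false
universe u

open CategoryTheory CategoryTheory.Limits AlgebraicGeometry TopologicalSpace IsLocalRing

namespace K319.Base

open Groth.Agent Groth.Agent.Fdesc.LocGen Groth.Agent.CurvesB K319.Setup

variable {X : Scheme.{u}}

theorem genLocus_comp_iso {L M : X.Modules} (s : Coh.structureModule X ⟶ L) (φ : L ⟶ M) [IsIso φ] :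
    CohB1.genLocus M (s ≫ φ) = CohB1.genLocus L s := by
  apply le_antisymm
  · have h1 := isGen_sec_genLocus (s ≫ φ)
    rw [le_genLocus_iff]
    rw [sec_comp] at h1
    have h2 := h1.app (inv φ)
    have h3 : (inv φ).app _ (φ.app _ (sec s (CohB1.genLocus M (s ≫ φ)))) =
        sec s (CohB1.genLocus M (s ≫ φ)) := by
      rw [← sec_comp, ← sec_comp, Category.assoc, IsIso.hom_inv_id, Category.comp_id]
    rwa [h3] at h2
  · rw [le_genLocus_iff, sec_comp]
    exact (isGen_sec_genLocus s).app φ

theorem NB.of_iso {L M : X.Modules} {P : X} (h : NB L P) (e : L ≅ M) : NB M P := by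
  obtain ⟨s, hs⟩ := h
  exact ⟨s ≫ e.hom, by rwa [genLocus_comp_iso]⟩

/-- The product of two sections. -/
noncomputable def mulS {L M : X.Modules} (s : Coh.structureModule X ⟶ L) (t : Coh.structureModule X ⟶ M) :
    Coh.structureModule X ⟶ CohB1.tensorMod L M := homOf (tmul (sec s ⊤) (sec t ⊤))

theorem sec_mulS {L M : X.Modules} (s : Coh.structureModule X ⟶ L) (t : Coh.structureModule X ⟶ M)
    (U : X.Opens) : sec (mulS s t) U = tmul (sec s U) (sec t U) := by
  rw [mulS, sec_homOf, res_tmul, res_sec, res_sec]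

theorem inf_genLocus_le {L M : X.Modules} (s : Coh.structureModule X ⟶ L) (t : Coh.structureModule X ⟶ M) :
    CohB1.genLocus L s ⊓ CohB1.genLocus M t ≤ CohB1.genLocus _ (mulS s t) := by
  rw [le_genLocus_iff, sec_mulS]
  have h1 := (isGen_sec_genLocus s).res (inf_le_left : CohB1.genLocus L s ⊓ CohB1.genLocus M t ≤ _)
  have h2 := (isGen_sec_genLocus t).res (inf_le_right : CohB1.genLocus L s ⊓ CohB1.genLocus M t ≤ _)
  rw [res_sec] at h1 h2
  exact h1.tmul h2

theorem NB.tensor {L M : X.Modules} {P : X} (h : NB L P) (h' : NB M P) : NB (CohB1.tensorMod L M) P := by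
  obtain ⟨s, hs⟩ := h
  obtain ⟨t, ht⟩ := h'
  exact ⟨mulS s t, inf_genLocus_le s t ⟨hs, ht⟩⟩

/-- Away from the support of `Z` the map `I_Z ⊗ L ⟶ L` is bijective on sections. -/
theorem mu_bijective {L : X.Modules} (hL : PicF.IsInvertible L) (Z : X.IdealSheafData) {U : X.Opens}
    (hU : ∀ y ∈ U, y ∉ Z.support) : Function.Bijective ((SepLift.mu Z L).app U) :=
  ⟨SepLift.mu_injective Z hL U, fun l =>
    SepLift.exists_mu_of_pr_eq_zero Z hL l (SepLift.pr_eq_zero_of_disjoint Z hL hU l)⟩

/-- The inverse of the ideal `I_Z` has a section generating away from `Z`. -/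
theorem NB_of_inverse {M : X.Modules} (hM : PicF.IsInvertible M) (Z : X.IdealSheafData)
    (e : CohB1.tensorMod (ClSub.idealMod Z) M ≅ Coh.structureModule X) {P : X} (hP : P ∉ Z.support) :
    NB M P := by
  let V : X.Opens := ⟨(Z.support : Set X)ᶜ, Z.support.isClosed.isOpen_compl⟩
  refine ⟨e.inv ≫ SepLift.mu Z M, ?_⟩
  rw [mem_genLocus_iff]
  refine ⟨V, hP, ?_⟩
  intro W hW
  have h1 : IsGen (e.inv.app W (one W)) := (isGen_one W).app e.inv
  have h2 := mu_bijective hM Z (U := W) (fun y hy hys => hW hy hys)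
  have h3 : (fun a : Γ(X, W) => a • res M hW (sec (e.inv ≫ SepLift.mu Z M) V)) =
      (SepLift.mu Z M).app W ∘ (fun a : Γ(X, W) => a • e.inv.app W (one W)) := by
    funext a
    rw [Function.comp_apply, res_sec, sec_comp, Scheme.Modules.Hom.app_smul]
    rfl
  rw [h3]
  exact h2.comp h1.bijective

section Curve

variable [IsIntegral X] [IsNoetherian X]

/-- A closed set not containing the generic point of a curve is a finite set of closed points. -/
theorem finite_of_genericPoint_notMem (hcl : ∀ x : X, x ≠ genericPoint X → IsClosed ({x} : Set X)) (Z : Set X)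
    (hZ : IsClosed Z) (hg : genericPoint X ∉ Z) : Z.Finite := by
  have h := K319.AbsCurve.finite_of_closedPoints (C := X) ⊤ Z hZ (fun y hy _ => hcl y (fun h => hg (h ▸ hy)))
  simpa using h

theorem genericPoint_mem_genLocus {L : X.Modules} (hL : PicF.IsInvertible L)
    (s : Coh.structureModule X ⟶ L) (hs : s ≠ 0) : genericPoint X ∈ CohB1.genLocus L s := by
  by_contra hcon
  apply hs
  apply hom_ext_sec
  -- locally the section is zero
  rw [isInvertible_iff] at hL
  choose U e hx he using hL
  refine res_ext L U (fun _ => le_top) (fun x _ => Opens.mem_iSup.2 ⟨x, hx x⟩) (fun x => ?_)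
  rw [res_sec, res_sec]
  obtain ⟨a, ha⟩ := (he x).exists_eq (sec s (U x))
  have hb := genLocus_inf_eq s (he x) ha
  have h1 : X.basicOpen a = ⊥ := by
    by_contra hne
    have h2 : ((X.basicOpen a : X.Opens) : Set X).Nonempty := by
      rw [Set.nonempty_iff_ne_empty]
      intro h
      exact hne (TopologicalSpace.Opens.ext h)
    obtain ⟨y, hy⟩ := h2
    have h3 : genericPoint X ∈ X.basicOpen a := (genericPoint_specializes y).mem_open (X.basicOpen a).2 hy
    rw [← hb] at h3
    exact hcon h3.1
  rw [basicOpen_eq_bot_iff] at h1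
  rw [ha, h1, zero_smul]
  rfl

theorem finite_compl_genLocus (hcl : ∀ x : X, x ≠ genericPoint X → IsClosed ({x} : Set X)) {L : X.Modules}
    (hL : PicF.IsInvertible L) (s : Coh.structureModule X ⟶ L) (hs : s ≠ 0) :
    ((CohB1.genLocus L s : Set X)ᶜ).Finite :=
  finite_of_genericPoint_notMem hcl _ (CohB1.genLocus L s).2.isClosed_compl
    (fun h => h (genericPoint_mem_genLocus hL s hs))

end Curve

end K319.Base
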