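import Groth.Agent.Curves.K319.Tw
import Groth.Agent.CurvesC.ProjSpaceBasic
import Groth.Agent.Fga.QT4
import Groth.Agent.Lefpen.H705.PointCoord
import Groth.Agent.Lefpen.H705.ClosedPoint

/-!
# Linear forms on projective space separate points and tangent vectors
-/

set_option autoImplicit false
universe u

open CategoryTheory CategoryTheory.Limits AlgebraicGeometry TopologicalSpace IsLocalRing

namespace K319.PnSep

open Groth.Agent Groth.Agent.Fdesc.LocGen K319.Setup K319.Base
open Groth.Agent.Lefpen.H705.ChartPoly Groth.Agent.Lefpen.H705.PointCoord Groth.Agent.Sga5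
open Groth.Agent.Lefpen.H705.ClosedPoint

variable {n : ℕ} {k : Type u} [Field k] {X : Scheme.{u}} (φ : X ⟶ CohB1.ProjSpace n k)

/-- the section of `φ^* O(1)` given by a linear form -/
noncomputable def σ (G : LefPen.Form n k 1) :
    Coh.structureModule X ⟶ (Scheme.Modules.pullback φ).obj (Twist.twistProjSpace n k 1) :=
  homOf (pullTop φ (M := Twist.twistProjSpace n k 1) (CurvesC.TwistGen.glob (CohB1.polyGrading n k) G))

/-- the generator over the chart -/
noncomputable def eg (j : Fin (n + 1)) :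
    Γ((Scheme.Modules.pullback φ).obj (Twist.twistProjSpace n k 1), φ ⁻¹ᵁ LefPen.chart n k j) :=
  pullSec φ (M := Twist.twistProjSpace n k 1) (res (Twist.twistProjSpace n k 1) (le_top : LefPen.chart n k j ≤ ⊤)
    (CurvesC.TwistGen.glob (CohB1.polyGrading n k) ⟨MvPolynomial.X j, LefPen.X_mem n k j⟩))

theorem isGen_eg (j : Fin (n + 1)) : IsGen (eg φ j) := by
  apply IsGen.pullSec
  exact CurvesC.TwistGen.isGen_glob (CohB1.polyGrading n k) ⟨MvPolynomial.X j, LefPen.X_mem n k j⟩

theorem sec_σ (G : LefPen.Form n k 1) (j : Fin (n + 1)) :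
    sec (σ φ G) (φ ⁻¹ᵁ LefPen.chart n k j) =
      (φ.app (LefPen.chart n k j) (LefPen.dehom G j) : Γ(X, φ ⁻¹ᵁ LefPen.chart n k j)) • eg φ j := by
  rw [σ, sec_homOf]
  have h1 := res_pullSec φ (M := Twist.twistProjSpace n k 1) (le_top : LefPen.chart n k j ≤ ⊤)
    (CurvesC.TwistGen.glob (CohB1.polyGrading n k) G)
  refine h1.trans ?_
  rw [eg, ← pullSec_smul]
  congr 1
  exact CurvesC.TwistGen.glob_eq_smul (CohB1.polyGrading n k) ⟨MvPolynomial.X j, LefPen.X_mem n k j⟩ G

theorem germ_app_dehom (G : LefPen.Form n k 1) (j : Fin (n + 1)) (x : X) (hx : φ x ∈ LefPen.chart n k j) :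
    X.presheaf.germ (φ ⁻¹ᵁ LefPen.chart n k j) x hx (φ.app (LefPen.chart n k j) (LefPen.dehom G j)) =
      coordHom φ j x hx (ProjChart.dehom n k j G.1) := by
  rw [dehom_eq]
  have h1 := Scheme.Hom.germ_stalkMap φ (LefPen.chart n k j) x hx
  exact congr($(h1).hom (polyToChart j (ProjChart.dehom n k j G.1))).symm

theorem mem_genLocus_σ_iff (G : LefPen.Form n k 1) (j : Fin (n + 1)) (x : X) (hx : φ x ∈ LefPen.chart n k j) :
    x ∈ CohB1.genLocus _ (σ φ G) ↔ IsUnit (coordHom φ j x hx (ProjChart.dehom n k j G.1)) := by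
  have h1 := genLocus_inf_eq (σ φ G) (isGen_eg φ j) (sec_σ φ G j)
  have hx' : x ∈ φ ⁻¹ᵁ LefPen.chart n k j := hx
  have h2 := Scheme.mem_basicOpen X (φ.app (LefPen.chart n k j) (LefPen.dehom G j)) x hx'
  rw [← germ_app_dehom φ G j x hx]
  refine Iff.trans ?_ h2
  rw [← h1]
  exact ⟨fun h => ⟨h, hx⟩, fun h => h.1⟩

theorem dehom_X_of_eq {m j : Fin (n + 1)} {l : Fin n} (h : m.succAbove l = j) :
    ProjChart.dehom n k m (MvPolynomial.X j) = MvPolynomial.X l := by
  subst h
  exact ProjChart.dehom_X n k m l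

theorem mem_chart_of_isUnit (m j : Fin (n + 1)) (x : X) (hx : φ x ∈ LefPen.chart n k m)
    (hu : IsUnit (coordHom φ m x hx (ProjChart.dehom n k m (MvPolynomial.X j)))) : φ x ∈ LefPen.chart n k j := by
  have h1 := germ_app_dehom φ ⟨MvPolynomial.X j, LefPen.X_mem n k j⟩ m x hx
  rw [← h1] at hu
  have h2 : x ∈ X.basicOpen (φ.app (LefPen.chart n k m) (LefPen.dehom ⟨MvPolynomial.X j, LefPen.X_mem n k j⟩ m)) :=
    (Scheme.mem_basicOpen X _ x (show x ∈ φ ⁻¹ᵁ LefPen.chart n k m from hx)).mpr hu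
  rw [← Scheme.preimage_basicOpen] at h2
  have h3 := Groth.Agent.Fga.QT4.basicOpen_ratio (n := n) (R := k) m j
  have h4 : φ x ∈ (CohB1.ProjSpace n k).basicOpen (CurvesC.ProjSpaceBasic.ratio n k m j) := h2
  rw [h3] at h4
  exact h4.2

theorem exists_chart (y : CohB1.ProjSpace n k) : ∃ j, y ∈ LefPen.chart n k j := by
  have h : y ∈ (⨆ i, CurvesC.ProjSpaceBasic.Dp n k i : (CohB1.ProjSpace n k).Opens) := by
    rw [CurvesC.ProjSpaceBasic.iSup_Dp]; trivial
  exact Opens.mem_iSup.mp h

/-- the form `X_{j.succAbove l} - a X_j` -/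
noncomputable def lf (j : Fin (n + 1)) (l : Fin n) (a : k) : LefPen.Form n k 1 :=
  ⟨MvPolynomial.X (j.succAbove l) - MvPolynomial.C a * MvPolynomial.X j, by
    refine Submodule.sub_mem _ (LefPen.X_mem n k _) ?_
    rw [← MvPolynomial.smul_eq_C_mul]
    exact Submodule.smul_mem _ _ (LefPen.X_mem n k _)⟩

theorem dehom_lf (j : Fin (n + 1)) (l : Fin n) (a : k) :
    ProjChart.dehom n k j (lf j l a).1 = MvPolynomial.X l - MvPolynomial.C a := by
  rw [lf, map_sub, map_mul, ProjChart.dehom_X, ProjChart.dehom_C, ProjChart.dehom_X_self, mul_one]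

variable [IsAlgClosed k] [LocallyOfFiniteType (φ ≫ CohB1.ProjSpace.toSpec n k)]

theorem exists_coords (j : Fin (n + 1)) (x : X) (hx : φ x ∈ LefPen.chart n k j) (hc : IsClosed ({x} : Set X)) :
    ∃ a : Fin n → k, ∀ l, coordHom φ j x hx (MvPolynomial.X l - MvPolynomial.C (a l)) ∈
      maximalIdeal (X.presheaf.stalk x) := by
  choose a ha using fun l => exists_sub_toStalk_mem (φ ≫ CohB1.ProjSpace.toSpec n k) x hc
    (coordHom φ j x hx (MvPolynomial.X l))
  refine ⟨a, fun l => ?_⟩
  rw [map_sub, coordHom_C]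
  exact ha l

/-- Linear forms separate tangent vectors. -/
theorem exists_tangent [IsClosedImmersion φ] (x : X) (hc : IsClosed ({x} : Set X))
    (hm : maximalIdeal (X.presheaf.stalk x) ^ 2 ≠ maximalIdeal (X.presheaf.stalk x)) :
    ∃ (V : X.Opens) (hy : x ∈ V) (e : Γ((Scheme.Modules.pullback φ).obj (Twist.twistProjSpace n k 1), V))
      (s : Coh.structureModule X ⟶ (Scheme.Modules.pullback φ).obj (Twist.twistProjSpace n k 1)) (a : Γ(X, V)),
      IsGen e ∧ a • e = sec s V ∧ X.presheaf.germ V x hy a ∈ maximalIdeal (X.presheaf.stalk x) ∧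
        X.presheaf.germ V x hy a ∉ maximalIdeal (X.presheaf.stalk x) ^ 2 := by
  obtain ⟨j, hj⟩ := exists_chart (φ x)
  obtain ⟨a, ha⟩ := exists_coords φ j x hj hc
  have hspan := maximalIdeal_eq_span φ j x hj a ha
  obtain ⟨l, hl⟩ : ∃ l, coordHom φ j x hj (MvPolynomial.X l - MvPolynomial.C (a l)) ∉
      maximalIdeal (X.presheaf.stalk x) ^ 2 := by
    by_contra hcon
    push Not at hcon
    apply hm
    apply le_antisymm (Ideal.pow_le_self two_ne_zero)
    conv_lhs => rw [hspan]
    rw [Ideal.span_le]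
    rintro _ ⟨l, rfl⟩
    exact hcon l
  refine ⟨φ ⁻¹ᵁ LefPen.chart n k j, hj, eg φ j, σ φ (lf j l (a l)),
    φ.app (LefPen.chart n k j) (LefPen.dehom (lf j l (a l)) j), isGen_eg φ j, (sec_σ φ _ j).symm, ?_, ?_⟩
  · rw [germ_app_dehom, dehom_lf]
    exact ha l
  · rw [germ_app_dehom, dehom_lf]
    exact hl

/-- Linear forms separate points. -/
theorem exists_sep [IsClosedImmersion φ] (P Q : X) (hP : IsClosed ({P} : Set X)) (hPQ : Q ≠ P) :
    ∃ s : Coh.structureModule X ⟶ (Scheme.Modules.pullback φ).obj (Twist.twistProjSpace n k 1),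
      P ∉ CohB1.genLocus _ s ∧ Q ∈ CohB1.genLocus _ s := by
  obtain ⟨j, hj⟩ := exists_chart (φ P)
  obtain ⟨a, ha⟩ := exists_coords φ j P hj hP
  by_contra hcon
  push Not at hcon
  have hPl : ∀ l, P ∉ CohB1.genLocus _ (σ φ (lf j l (a l))) := by
    intro l
    rw [mem_genLocus_σ_iff φ _ j P hj, dehom_lf]
    exact (mem_maximalIdeal _).mp (ha l)
  have hQl : ∀ l, Q ∉ CohB1.genLocus _ (σ φ (lf j l (a l))) := fun l => hcon _ (hPl l)
  by_cases hQj : φ Q ∈ LefPen.chart n k j
  · apply hPQ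
    have h1 : ∀ l, coordHom φ j Q hQj (MvPolynomial.X l - MvPolynomial.C (a l)) ∈
        maximalIdeal (X.presheaf.stalk Q) := by
      intro l
      have := hQl l
      rw [mem_genLocus_σ_iff φ _ j Q hQj, dehom_lf] at this
      exact (mem_maximalIdeal _).mpr this
    have e1 := eq_span_of_mem a ((maximalIdeal (X.presheaf.stalk P)).comap (coordHom φ j P hj))
      (Ideal.IsPrime.ne_top inferInstance) ha
    have e2 := eq_span_of_mem a ((maximalIdeal (X.presheaf.stalk Q)).comap (coordHom φ j Q hQj))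
      (Ideal.IsPrime.ne_top inferInstance) h1
    have e3 : (maximalIdeal (X.presheaf.stalk P)).comap (chartStalk φ j P hj) =
        (maximalIdeal (X.presheaf.stalk Q)).comap (chartStalk φ j Q hQj) := by
      have h2 := e1.trans e2.symm
      rw [coordHom_eq, coordHom_eq, ← Ideal.comap_comap, ← Ideal.comap_comap] at h2
      exact Ideal.comap_injective_of_surjective _ (polyToChart_bijective j).2 h2
    apply φ.isClosedEmbedding.injective
    have hU := CurvesC.ProjSpaceBasic.isAffineOpen_Dp n k j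
    have e4 : ∀ (x : X) (hx : φ x ∈ LefPen.chart n k j),
        (hU.primeIdealOf ⟨φ x, hx⟩).asIdeal = (maximalIdeal (X.presheaf.stalk x)).comap (chartStalk φ j x hx) := by
      intro x hx
      rw [chartStalk, ← Ideal.comap_comap]
      have h3 : (maximalIdeal (X.presheaf.stalk x)).comap (φ.stalkMap x).hom =
          maximalIdeal ((CohB1.ProjSpace n k).presheaf.stalk (φ x)) :=
        IsLocalRing.eq_maximalIdeal (Ideal.comap_isMaximal_of_surjective _ (φ.stalkMap_surjective x))
      rw [h3]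
      let _ := (CohB1.ProjSpace n k).presheaf.algebra_section_stalk
        (⟨φ x, hx⟩ : CurvesC.ProjSpaceBasic.Dp n k j)
      have hloc : IsLocalization.AtPrime ((CohB1.ProjSpace n k).presheaf.stalk (φ x))
          (hU.primeIdealOf ⟨φ x, hx⟩).asIdeal := hU.isLocalization_stalk ⟨φ x, hx⟩
      exact (IsLocalization.AtPrime.under_maximalIdeal ((CohB1.ProjSpace n k).presheaf.stalk (φ x))
        (hU.primeIdealOf ⟨φ x, hx⟩).asIdeal).symm
    have e5 : hU.primeIdealOf ⟨φ Q, hQj⟩ = hU.primeIdealOf ⟨φ P, hj⟩ := by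
      apply PrimeSpectrum.ext
      rw [e4, e4, e3]
    have e6 := congrArg (fun p => hU.fromSpec p) e5
    simpa only [hU.fromSpec_primeIdealOf] using e6
  · obtain ⟨m, hm⟩ := exists_chart (φ Q)
    have hmj : m ≠ j := by rintro rfl; exact hQj hm
    obtain ⟨l, rfl⟩ := Fin.exists_succAbove_eq hmj
    apply hQl l
    rw [mem_genLocus_σ_iff φ _ _ Q hm]
    obtain ⟨l', hl'⟩ := Fin.exists_succAbove_eq hmj.symm
    have h1 : ProjChart.dehom n k (j.succAbove l) (lf j l (a l)).1 =
        1 - MvPolynomial.C (a l) * MvPolynomial.X l' := by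
      rw [lf, map_sub, map_mul, ProjChart.dehom_X_self, ProjChart.dehom_C, dehom_X_of_eq hl']
    rw [h1, map_sub, map_one, map_mul]
    have h2 : ¬ IsUnit (coordHom φ (j.succAbove l) Q hm (MvPolynomial.X l')) := by
      intro hu
      apply hQj
      refine mem_chart_of_isUnit φ _ j Q hm ?_
      rw [dehom_X_of_eq hl']
      exact hu
    have h4 := (mem_maximalIdeal _).mpr h2
    have h5 := Ideal.mul_mem_left _ (coordHom φ (j.succAbove l) Q hm (MvPolynomial.C (a l))) h4
    exact IsLocalRing.isUnit_one_sub_self_of_mem_nonunits _ ((mem_maximalIdeal _).mp h5)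

end K319.PnSep
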