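import Groth.Agent.S11482
import Groth.Agent.VBCurve.K705.InvSub
import Groth.Agent.VBCurve.K706.Tier1
import Groth.Agent.VBCurve.K703.Twist
import Groth.Agent.Curves.K319.Setup

/-!
# Normalized indecomposable modules of rank two on a smooth proper curve
-/

set_option autoImplicit false
universe u

open CategoryTheory CategoryTheory.Limits AlgebraicGeometry

namespace K319.RankTwo

open Groth.Agent Groth.Agent.VarietyA.DegRank K707.Base K707.Deg K707.Slope K707.Semi

variable (k : Type u) [Field k] {X : Scheme.{u}} [X.Over (Spec (CommRingCat.of k))] [IsIntegral X]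
  [IsProper (X ↘ (Spec (CommRingCat.of k)))]

variable {k}

/-- a rank two module which is not a sum of two invertible modules is indecomposable -/
theorem indec (C : Crv k X) {E : X.Modules} (hE : FlatMod.IsFinLocFreeOfRank 2 E)
    (hind : ∀ L₁ L₂ : X.Modules, PicF.IsInvertible L₁ → PicF.IsInvertible L₂ → IsEmpty (E ≅ L₁ ⊞ L₂))
    (E₁ E₂ : X.Modules) (h : Nonempty (E ≅ E₁ ⊞ E₂)) : IsZero E₁ ∨ IsZero E₂ := by
  obtain ⟨e⟩ := h
  have hEv := isFinLocFree_of_rank hE
  have hv : FlatMod.IsFinLocFree (E₁ ⊞ E₂) := vb_iso e hEv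
  have h1 : FlatMod.IsFinLocFree E₁ := K706.Tier1.vb_of_retract C ⟨biprod.inl, biprod.fst, by simp⟩ hv
  have h2 : FlatMod.IsFinLocFree E₂ := K706.Tier1.vb_of_retract C ⟨biprod.inr, biprod.snd, by simp⟩ hv
  have hr := rk_add' k _ (K706.Tier1.biprod_shortExact E₁ E₂) (coh_of_vb hv)
  change rk (E₁ ⊞ E₂) = rk E₁ + rk E₂ at hr
  rw [← rk_iso e, rk_of_rank hE] at hr
  by_contra hcon
  push Not at hcon
  have h3 : rk E₁ ≠ 0 := fun h0 => hcon.1 (isZero_of_rk_eq_zero C h1 h0)
  have h4 : rk E₂ ≠ 0 := fun h0 => hcon.2 (isZero_of_rk_eq_zero C h2 h0)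
  have h5 := isFinLocFreeOfRank_rk h1
  have h6 := isFinLocFreeOfRank_rk h2
  rw [show rk E₁ = 1 by omega] at h5
  rw [show rk E₂ = 1 by omega] at h6
  exact (hind E₁ E₂ (Ega2.QCohLocal.isFinLocFreeOfRank_one_iff.1 h5)
    (Ega2.QCohLocal.isFinLocFreeOfRank_one_iff.1 h6)).false e

/-- normalized: an invertible module mapping nontrivially has nonpositive degree -/
theorem deg_nonpos_of_hom (hdim : topologicalKrullDim X = 1) {E : X.Modules}
    (hneg : ∀ M : X.Modules, PicF.IsInvertible M → Curv2.deg k X M 1 < 0 →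
      Subsingleton (Coh.HH X (CohB1.tensorMod E M) 0)) {L : X.Modules} (hL : PicF.IsInvertible L) (f : L ⟶ E)
    (hf : f ≠ 0) : Curv2.deg k X L 1 ≤ 0 := by
  by_contra hcon
  push Not at hcon
  obtain ⟨P, hP, ⟨e⟩⟩ := Grpsch.PicGrp.exists_inverse hL
  have h1 := K703.Twist.deg_inv k hdim hL hP e
  have h2 := hneg P hP (by omega)
  have h3 := Flat2E.FormalLift418.faithful_tw e
  apply hf
  apply (DCoh.tensorRightMod P).map_injective
  let e' : (DCoh.tensorRightMod P).obj L ≅ Coh.structureModule X := e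
  have h4 := K703.Twist.eq_zero_of_h0 h2 (e'.inv ≫ (DCoh.tensorRightMod P).map f)
  have h5 : (DCoh.tensorRightMod P).map f = 0 := by
    rw [← cancel_epi e'.inv, comp_zero]
    exact h4
  rw [h5, Functor.map_zero]

theorem exists_ne_zero_of_h0 {E : X.Modules} (h : Nontrivial (Coh.HH X E 0)) :
    ∃ s : Coh.structureModule X ⟶ E, s ≠ 0 := by
  by_contra hcon
  push Not at hcon
  exact not_subsingleton (Coh.HH X E 0) (K703.Twist.h0_eq_zero hcon)

end K319.RankTwo
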