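import Groth.Agent.Curves.K319.GG

/-!
# Base points of `I_P ⊗ L`: separation of points and tangents
-/

set_option autoImplicit false
universe u

open CategoryTheory CategoryTheory.Limits AlgebraicGeometry TopologicalSpace IsLocalRing

namespace K319.Base

open Groth.Agent Groth.Agent.Fdesc.LocGen Groth.Agent.CurvesB K319.Setup Groth.Agent.Ega2
open Groth.Agent.Divis.CartierBasic Groth.Agent.Dix.IdealModCartier

variable {X : Scheme.{u}} (P : X) (hP : IsClosed ({P} : Set X))

/-- A section vanishing at `P` comes from `I_P ⊗ L`. -/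
theorem exists_lift {L : X.Modules} (hL : PicF.IsInvertible L) (s : Coh.structureModule X ⟶ L)
    (hs : P ∉ CohB1.genLocus L s) :
    ∃ t : Coh.structureModule X ⟶ CohB1.tensorMod (ClSub.idealMod (I X P hP)) L,
      t ≫ SepLift.mu (I X P hP) L = s := by
  have h1 : (SepLift.pr (I X P hP) L).app ⊤ (sec s ⊤) = 0 := by
    rw [pr_eq_zero_iff P hP hL]
    have : CurvesC.Gen.ofSec (sec s ⊤) = s := CurvesC.Gen.ofSec_sec s
    rwa [this]
  obtain ⟨t, ht⟩ := SepLift.exists_mu_of_pr_eq_zero _ hL _ h1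
  refine ⟨homOf t, hom_ext_sec ?_⟩
  rw [sec_comp, sec_homOf, res_refl]
  exact ht

theorem notMem_genLocus_mu {L : X.Modules} (hL : PicF.IsInvertible L)
    (t : Coh.structureModule X ⟶ CohB1.tensorMod (ClSub.idealMod (I X P hP)) L) :
    P ∉ CohB1.genLocus L (t ≫ SepLift.mu (I X P hP) L) := by
  have h1 := (pr_eq_zero_iff P hP hL (sec (t ≫ SepLift.mu (I X P hP) L) ⊤)).mp (by
    rw [sec_comp]
    have := cokernel.condition (SepLift.mu (I X P hP) L)
    exact congr(($this).app ⊤ (sec t ⊤)))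
  have : CurvesC.Gen.ofSec (sec (t ≫ SepLift.mu (I X P hP) L) ⊤) = t ≫ SepLift.mu (I X P hP) L :=
    CurvesC.Gen.ofSec_sec _
  rwa [this] at h1

/-- Away from `P` the sections `t` and `mu t` have the same generation locus. -/
theorem mem_genLocus_mu_iff {L : X.Modules} (hL : PicF.IsInvertible L)
    (t : Coh.structureModule X ⟶ CohB1.tensorMod (ClSub.idealMod (I X P hP)) L) {Q : X} (hQ : Q ≠ P) :
    Q ∈ CohB1.genLocus L (t ≫ SepLift.mu (I X P hP) L) ↔ Q ∈ CohB1.genLocus _ t := by
  let V : X.Opens := ⟨({P} : Set X)ᶜ, hP.isOpen_compl⟩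
  have hQV : Q ∈ V := hQ
  have key : ∀ W : X.Opens, W ≤ V → (IsGen (sec (t ≫ SepLift.mu (I X P hP) L) W) ↔ IsGen (sec t W)) := by
    intro W hW
    have h2 : ∀ (W' : X.Opens) (_ : W' ≤ W), Function.Bijective ((SepLift.mu (I X P hP) L).app W') := by
      intro W' hW'
      refine mu_bijective hL _ (U := W') (fun y hy hys => ?_)
      rw [mem_support_I] at hys
      exact hW (hW' hy) hys
    have h3 : ∀ (W' : X.Opens) (hW' : W' ≤ W),
        (fun a : Γ(X, W') => a • res L hW' (sec (t ≫ SepLift.mu (I X P hP) L) W)) =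
        (SepLift.mu (I X P hP) L).app W' ∘ (fun a : Γ(X, W') => a • res _ hW' (sec t W)) := by
      intro W' hW'
      funext a
      rw [Function.comp_apply, res_sec, sec_comp, Scheme.Modules.Hom.app_smul, res_sec]
    constructor
    · intro h W' hW'
      have := h W' hW'
      rw [h3 W' hW'] at this
      exact ((h2 W' hW').of_comp_iff' _).mp this
    · intro h W' hW'
      rw [h3 W' hW']
      exact (h2 W' hW').comp (h W' hW')
  rw [mem_genLocus_iff, mem_genLocus_iff]
  constructor
  · rintro ⟨W, hW, h⟩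
    refine ⟨W ⊓ V, ⟨hW, hQV⟩, (key _ inf_le_right).mp ?_⟩
    have := h.res (inf_le_left : W ⊓ V ≤ W)
    rwa [res_sec] at this
  · rintro ⟨W, hW, h⟩
    refine ⟨W ⊓ V, ⟨hW, hQV⟩, (key _ inf_le_right).mpr ?_⟩
    have := h.res (inf_le_left : W ⊓ V ≤ W)
    rwa [res_sec] at this

/-- Separation of distinct points. -/
theorem NB_ideal_iff_of_ne {L : X.Modules} (hL : PicF.IsInvertible L) {Q : X} (hQ : Q ≠ P) :
    NB (CohB1.tensorMod (ClSub.idealMod (I X P hP)) L) Q ↔
      ∃ s : Coh.structureModule X ⟶ L, P ∉ CohB1.genLocus L s ∧ Q ∈ CohB1.genLocus L s := by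
  constructor
  · rintro ⟨t, ht⟩
    exact ⟨t ≫ SepLift.mu (I X P hP) L, notMem_genLocus_mu P hP hL t, (mem_genLocus_mu_iff P hP hL t hQ).mpr ht⟩
  · rintro ⟨s, hPs, hQs⟩
    obtain ⟨t, rfl⟩ := exists_lift P hP hL s hPs
    exact ⟨t, (mem_genLocus_mu_iff P hP hL t hQ).mp hQs⟩

section Tangent

variable (hE : BlowUp.IsEffCartierIdeal (I X P hP))

include hE in
/-- local generators near `P` -/
theorem exists_local_gens {L : X.Modules} (hL : PicF.IsInvertible L) :
    ∃ (U : X.Opens) (_ : P ∈ U) (e : Γ(L, U)) (i : Γ(ClSub.idealMod (I X P hP), U)), IsGen e ∧ IsGen i := by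
  obtain ⟨U, e, hx, he⟩ := (isInvertible_iff L).1 hL P
  obtain ⟨V, i, hx', hi⟩ := (isInvertible_iff _).1 (isInvertible_idealMod hE) P
  exact ⟨U ⊓ V, ⟨hx, hx'⟩, res _ inf_le_left e, res _ inf_le_right i, he.res _, hi.res _⟩

theorem span_germ_val {U : X.Opens} (hPU : P ∈ U) {i : Γ(ClSub.idealMod (I X P hP), U)} (hi : IsGen i) :
    Ideal.span {X.presheaf.germ U P hPU (val _ i)} = maximalIdeal (X.presheaf.stalk P) := by
  obtain ⟨W, hW, hPW, hWU⟩ := exists_isAffineOpen_mem_and_subset (U := U) hPU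
  have h1 := genOn_of_isGen hi ⟨W, hW⟩ hWU
  rw [← stalkIdeal_I P hP, stalkIdeal_eq _ ⟨W, hW⟩ hPW, h1.2, Ideal.map_span, Set.image_singleton]
  congr 2
  exact (X.presheaf.germ_res_apply (homOfLE hWU) P hPW (val _ i)).symm

include hE in
/-- Separation of tangent vectors. -/
theorem NB_ideal_self_iff [IsLocallyNoetherian X] {L : X.Modules} (hL : PicF.IsInvertible L)
    (hm : maximalIdeal (X.presheaf.stalk P) ^ 2 ≠ maximalIdeal (X.presheaf.stalk P)) :
    NB (CohB1.tensorMod (ClSub.idealMod (I X P hP)) L) P ↔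
      ∃ (V : X.Opens) (hy : P ∈ V) (e : Γ(L, V)) (s : Coh.structureModule X ⟶ L) (a : Γ(X, V)),
        IsGen e ∧ a • e = sec s V ∧ X.presheaf.germ V P hy a ∈ maximalIdeal (X.presheaf.stalk P) ∧
        X.presheaf.germ V P hy a ∉ maximalIdeal (X.presheaf.stalk P) ^ 2 := by
  obtain ⟨U, hPU, e, i, he, hi⟩ := exists_local_gens P hP hE hL
  have hspan := span_germ_val P hP hPU hi
  have hie : IsGen (tmul i e) := hi.tmul he
  have hmu : (SepLift.mu (I X P hP) L).app U (tmul i e) = val _ i • e := SepLift.mu_tmul _ L i e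
  have hϖ : X.presheaf.germ U P hPU (val _ i) ∈ maximalIdeal (X.presheaf.stalk P) := by
    rw [← hspan]; exact Ideal.mem_span_singleton_self _
  constructor
  · rintro ⟨t, ht⟩
    let V := U ⊓ CohB1.genLocus _ t
    have hPV : P ∈ V := ⟨hPU, ht⟩
    have ht' : IsGen (sec t V) := by
      have := (isGen_sec_genLocus t).res (inf_le_right : V ≤ _)
      rwa [res_sec] at this
    have hie' : IsGen (res _ (inf_le_left : V ≤ U) (tmul i e)) := hie.res _
    obtain ⟨b, hb, htb⟩ := hie'.exists_unit ht'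
    refine ⟨V, hPV, res _ inf_le_left e, t ≫ SepLift.mu (I X P hP) L, b * ores inf_le_left (val _ i),
      he.res _, ?_, ?_, ?_⟩
    · rw [sec_comp, htb, Scheme.Modules.Hom.app_smul, app_res, hmu, res_smul, mul_smul]
    · rw [map_mul]
      refine Ideal.mul_mem_left _ _ ?_
      have h1 : X.presheaf.germ V P hPV (ores (inf_le_left : V ≤ U) (val _ i)) =
        X.presheaf.germ U P hPU (val _ i) := X.presheaf.germ_res_apply (homOfLE inf_le_left) P hPV _
      rw [h1]
      exact hϖ
    · intro hcon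
      apply hm
      apply le_antisymm (Ideal.pow_le_self two_ne_zero)
      rw [map_mul, Ideal.unit_mul_mem_iff_mem _ (hb.map _)] at hcon
      have h1 : X.presheaf.germ V P hPV (ores (inf_le_left : V ≤ U) (val _ i)) =
        X.presheaf.germ U P hPU (val _ i) := X.presheaf.germ_res_apply (homOfLE inf_le_left) P hPV _
      rw [h1] at hcon
      conv_lhs => rw [← hspan]
      rw [Ideal.span_singleton_le_iff_mem]
      exact hcon
  · rintro ⟨V, hPV, e', s, a, he', ha, ham, ham2⟩
    -- the section vanishes at `P`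
    have hPs : P ∉ CohB1.genLocus L s := by
      intro hcon
      have h1 := genLocus_inf_eq s he' ha.symm
      have h2 : P ∈ X.basicOpen a := by rw [← h1]; exact ⟨hcon, hPV⟩
      rw [Scheme.mem_basicOpen _ _ _ hPV] at h2
      exact (mem_maximalIdeal _).mp ham h2
    obtain ⟨t, rfl⟩ := exists_lift P hP hL s hPs
    refine ⟨t, ?_⟩
    let W := U ⊓ V
    have hPW : P ∈ W := ⟨hPU, hPV⟩
    have hie' : IsGen (res _ (inf_le_left : W ≤ U) (tmul i e)) := hie.res _
    obtain ⟨b, hb⟩ := hie'.exists_eq (sec t W)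
    have he1 : IsGen (res L (inf_le_left : W ≤ U) e) := he.res _
    obtain ⟨v, hv, hve⟩ := he1.exists_unit (he'.res (inf_le_right : W ≤ V))
    have h1 : (ores (inf_le_right : W ≤ V) a * v) • res L (inf_le_left : W ≤ U) e =
        (b * ores inf_le_left (val _ i)) • res L (inf_le_left : W ≤ U) e := by
      rw [mul_smul, ← hve, ← res_smul, ha, res_sec, sec_comp, hb, Scheme.Modules.Hom.app_smul, app_res,
        hmu, res_smul, mul_smul]
    have h2 := he1.ext h1
    have h3 := congrArg (X.presheaf.germ W P hPW) h2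
    rw [map_mul, map_mul] at h3
    have e1 : X.presheaf.germ W P hPW (ores (inf_le_right : W ≤ V) a) = X.presheaf.germ V P hPV a :=
      X.presheaf.germ_res_apply (homOfLE inf_le_right) P hPW _
    have e2 : X.presheaf.germ W P hPW (ores (inf_le_left : W ≤ U) (val _ i)) =
        X.presheaf.germ U P hPU (val _ i) := X.presheaf.germ_res_apply (homOfLE inf_le_left) P hPW _
    rw [e1, e2] at h3
    have hbu : IsUnit (X.presheaf.germ W P hPW b) := by
      by_contra hcon
      apply ham2
      have h4 : X.presheaf.germ V P hPV a * X.presheaf.germ W P hPW v ∈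
          maximalIdeal (X.presheaf.stalk P) ^ 2 := by
        rw [h3, sq]
        exact Ideal.mul_mem_mul ((mem_maximalIdeal _).mpr hcon) hϖ
      exact (Ideal.mul_unit_mem_iff_mem _ (hv.map _)).mp h4
    have h5 := genLocus_inf_eq t hie' hb
    have h6 : P ∈ X.basicOpen b := by
      rw [Scheme.mem_basicOpen _ _ _ hPW]
      exact hbu
    rw [← h5] at h6
    exact h6.1

end Tangent

end K319.Base
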