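import Groth.Agent.Curves.K319.PnSep
import Groth.Agent.Curves.K319.PicCD
import Groth.Agent.CurvesB.VeryAmple

/-!
# Very ample invertible modules on regular proper curves over an algebraically closed field
-/

set_option autoImplicit false
universe u

open CategoryTheory CategoryTheory.Limits AlgebraicGeometry TopologicalSpace IsLocalRing

namespace K319.VA

open Groth.Agent Groth.Agent.Fdesc.LocGen K319.Setup K319.Base K319.PicCD K319.PnSep
open Groth.Agent.Grpsch.PicGrp K532.CurvePic Groth.Agent.Dix.IdealModCartier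

variable (k : Type u) [Field k] (X : Scheme.{u}) [X.Over (Spec (CommRingCat.of k))]

/-- `L` is very ample over `k` -/
def IsVA (L : X.Modules) : Prop :=
  ∃ (n : ℕ) (i : X ⟶ CohB1.ProjSpace n k), IsClosedImmersion i ∧
    i ≫ CohB1.ProjSpace.toSpec n k = (X ↘ (Spec (CommRingCat.of k))) ∧
    Nonempty ((Scheme.Modules.pullback i).obj (Twist.twistProjSpace n k 1) ≅ L)

variable [IsAlgClosed k] [IsIntegral X] [IsProper (X ↘ (Spec (CommRingCat.of k)))]

include k in
theorem sq_ne (hX : Reg X) (P : Pts X) :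
    maximalIdeal (X.presheaf.stalk P.1) ^ 2 ≠ maximalIdeal (X.presheaf.stalk P.1) := by
  have hd := isDVR k X hX.dim hX.reg (ne_genericPoint hX.dim P.2)
  intro h
  have h1 : maximalIdeal (X.presheaf.stalk P.1) = ⊥ := by
    refine Submodule.eq_bot_of_le_smul_of_le_jacobson_bot (maximalIdeal (X.presheaf.stalk P.1)) _
      (IsNoetherian.noetherian _) ?_ (IsLocalRing.maximalIdeal_le_jacobson _)
    rw [smul_eq_mul, ← sq, h]
  exact IsDiscreteValuationRing.not_a_field _ h1

theorem NB_of_isVA {L : X.Modules} (h : IsVA k X L) (P : X) : NB L P := by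
  obtain ⟨n, i, hi, hik, ⟨e⟩⟩ := h
  refine NB.of_iso ?_ e
  obtain ⟨j, hj⟩ := exists_chart (i P)
  refine ⟨σ i ⟨MvPolynomial.X j, LefPen.X_mem n k j⟩, ?_⟩
  rw [mem_genLocus_σ_iff i _ j P hj, Sga5.ProjChart.dehom_X_self, map_one]
  exact isUnit_one

theorem NB_ideal_of_isVA (hX : Reg X) {L : X.Modules} (hL : PicF.IsInvertible L) (h : IsVA k X L)
    (P Q : Pts X) : NB (CohB1.tensorMod (ClSub.idealMod (I X P.1 P.2)) L) Q.1 := by
  have := isNoeth k X
  have hE := isEff_I k X hX.dim hX.reg P.1 P.2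
  obtain ⟨n, i, hi, hik, ⟨e⟩⟩ := h
  have hL' : PicF.IsInvertible ((Scheme.Modules.pullback i).obj (Twist.twistProjSpace n k 1)) := by
    rw [isInvertible_iff] at hL ⊢
    intro x
    obtain ⟨U, g, hx, hg⟩ := hL x
    exact ⟨U, e.inv.app U g, hx, hg.app e.inv⟩
  have hlft : LocallyOfFiniteType (i ≫ CohB1.ProjSpace.toSpec n k) := by
    rw [hik]; infer_instance
  by_cases hPQ : Q.1 = P.1
  · obtain rfl : Q = P := Subtype.ext hPQ
    have h1 := (NB_ideal_self_iff Q.1 Q.2 hE hL' (sq_ne k X hX Q)).mpr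
      (exists_tangent i Q.1 Q.2 (sq_ne k X hX Q))
    exact h1.of_iso (Ega2.Tens.mapTIso (Iso.refl _) e)
  · have h1 := (NB_ideal_iff_of_ne P.1 P.2 hL' hPQ).mpr (exists_sep i P.1 Q.1 P.2 hPQ)
    exact h1.of_iso (Ega2.Tens.mapTIso (Iso.refl _) e)

theorem isVA_of_NB (hX : Reg X) {L : X.Modules} (hL : PicF.IsInvertible L) (h1 : ∀ P : Pts X, NB L P.1)
    (h2 : ∀ P Q : Pts X, NB (CohB1.tensorMod (ClSub.idealMod (I X P.1 P.2)) L) Q.1) : IsVA k X L := by
  have := isNoeth k X
  have H : IsPullback (𝟙 X) (X ↘ (Spec (CommRingCat.of k))) (X ↘ (Spec (CommRingCat.of k)))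
      (Spec.map (CommRingCat.ofHom (algebraMap k k))) := by
    have h0 : Spec.map (CommRingCat.ofHom (algebraMap k k)) = 𝟙 _ := by
      rw [Algebra.algebraMap_self]
      exact Spec.map_id _
    rw [h0]
    exact IsPullback.of_horiz_isIso ⟨by simp⟩
  have e : L ≅ (Scheme.Modules.pullback (𝟙 X)).obj L := ((Scheme.Modules.pullbackId X).app L).symm
  have hL' : PicF.IsInvertible ((Scheme.Modules.pullback (𝟙 X)).obj L) := isInvertible_pullback _ hL
  refine CurvesB.VeryAmple.of_separates H hL ?_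
  refine ⟨fun y hy => (h1 ⟨y, hy⟩).of_iso e, ?_, ?_⟩
  · intro x y hx hy hxy
    have h3 := (h2 ⟨x, hx⟩ ⟨y, hy⟩).of_iso (Ega2.Tens.mapTIso (Iso.refl _) e)
    exact (NB_ideal_iff_of_ne x hx hL' hxy.symm).mp h3
  · intro y hy J hJ
    have hE := isEff_I k X hX.dim hX.reg y hy
    have h3 := (h2 ⟨y, hy⟩ ⟨y, hy⟩).of_iso (Ega2.Tens.mapTIso (Iso.refl _) e)
    obtain ⟨V, hyV, e', s, a, he', ha, ham, ham2⟩ :=
      (NB_ideal_self_iff y hy hE hL' (sq_ne k X hX ⟨y, hy⟩)).mp h3
    refine ⟨V, hyV, e', s, a, he', ha, ham, fun hJa => ?_⟩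
    -- `a` generates the maximal ideal
    have hd := isDVR k X hX.dim hX.reg (ne_genericPoint hX.dim hy)
    obtain ⟨ϖ, hϖ⟩ := IsDiscreteValuationRing.exists_irreducible (X.presheaf.stalk y)
    rw [hϖ.maximalIdeal_eq, Ideal.mem_span_singleton] at ham
    obtain ⟨c, hc⟩ := ham
    have hcu : IsUnit c := by
      by_contra hcon
      apply ham2
      rw [hc, sq]
      refine Ideal.mul_mem_mul ?_ ((mem_maximalIdeal _).mpr hcon)
      rw [hϖ.maximalIdeal_eq]
      exact Ideal.mem_span_singleton_self _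
    have : maximalIdeal (X.presheaf.stalk y) ≤ J := by
      rw [hϖ.maximalIdeal_eq, Ideal.span_singleton_le_iff_mem]
      rw [hc] at hJa
      exact (Ideal.mul_unit_mem_iff_mem _ hcu).mp hJa
    exact absurd hJ (not_lt_of_ge this)

theorem isVA_iff (hX : Reg X) {L : X.Modules} (hL : PicF.IsInvertible L) :
    IsVA k X L ↔ ∀ P Q : Pts X, (cd k X hX).h (Additive.ofMul (mk L hL) - (cd k X hX).p P - (cd k X hX).p Q) + 2 =
      (cd k X hX).h (Additive.ofMul (mk L hL)) := by
  have hI : ∀ P : Pts X, PicF.IsInvertible (ClSub.idealMod (I X P.1 P.2)) := fun P =>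
    isInvertible_idealMod (isEff_I k X hX.dim hX.reg P.1 P.2)
  have key : ∀ P Q : Pts X, (cd k X hX).nb Q (Additive.ofMul (mk L hL) - (cd k X hX).p P) ↔
      NB (CohB1.tensorMod (ClSub.idealMod (I X P.1 P.2)) L) Q.1 := by
    intro P Q
    rw [← NBc_mk Q.1 (isInvertible_tensorMod (hI P) hL), ← mk_mul_mk (hI P) hL]
    change NBc X Q.1 (mk L hL / pt k X hX P) ↔ _
    rw [div_eq_mul_inv, pt, inv_inv, mul_comm]
  have key0 : ∀ P : Pts X, (cd k X hX).nb P (Additive.ofMul (mk L hL)) ↔ NB L P.1 := fun P => NBc_mk P.1 hL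
  constructor
  · intro h P Q
    have h1 := (cd k X hX).h_of_nb P _ ((key0 P).mpr (NB_of_isVA k X h P.1))
    have h2 := (cd k X hX).h_of_nb Q _ ((key P Q).mpr (NB_ideal_of_isVA k X hX hL h P Q))
    omega
  · intro h
    refine isVA_of_NB k X hX hL ?_ ?_
    · intro P
      rw [← key0 P, (cd k X hX).nb_iff]
      have h1 := h P P
      have h2 := (cd k X hX).h_le_succ (Additive.ofMul (mk L hL)) P
      have h3 := (cd k X hX).h_le_succ (Additive.ofMul (mk L hL) - (cd k X hX).p P) P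
      have h4 := (cd k X hX).h_sub_le (Additive.ofMul (mk L hL)) P
      omega
    · intro P Q
      rw [← key P Q, (cd k X hX).nb_iff]
      have h1 := h P Q
      have h2 := (cd k X hX).h_le_succ (Additive.ofMul (mk L hL)) P
      have h3 := (cd k X hX).h_le_succ (Additive.ofMul (mk L hL) - (cd k X hX).p P) Q
      omega

end K319.VA
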